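import Mathlib
import Cfsg.Agent.H334.Symp.ModelSetup
import Cfsg.Agent.H339.SpIso
import Cfsg.Agent.Cit.Parab
import Cfsg.Agent.S0205
import Cfsg.Agent.H339.Asm
import Cfsg.Agent.H794.SocleCount
import Cfsg.Agent.Lib.SubnormalJoin
import Cfsg.Agent.SignalizersComponents.RelSylow
import Cfsg.Agent.SylowSp4.Base
import Cfsg.Agent.FastGrp
import Cfsg.Agent.Prune
set_option linter.all false

section
prune_inst 0x7f00000000000000000000000000000000000000000000000000000000000000000000000000000000000000000000000000000000000000000000000000000000000000000000000000000000000000003fffffffffffffffffffffffffffbeffbdffffffff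

-- part: H334/Symp/Fus
section
set_option linter.all false
open scoped Cfsg.Agent.FastGrp

/-!
# Centralizers of elements of order three in the abstract `PSp(4, 3^m)` set-up with `N_G(M) ≤ N_G(P)`

`SCThm p` is the statement S5325: a strongly closed subgroup of an elementary abelian Sylow `p`-subgroup is a Sylow
`p`-subgroup of a normal subgroup. With `SCThm 3`: `C_G(v) ≤ N_G(Z)` for all `v ∈ C` of order 3, and
`C_G(t) ≤ N_G(Z)`.
-/

set_option autoImplicit false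

universe u

namespace Cfsg.Agent.H334.Symp

open Subgroup Cfsg

open scoped commutatorElement

/-- the statement S5325 for the prime `p` -/
def SCThm (p : ℕ) : Prop :=
  ∀ (Y : Type u) [Group Y] [Finite Y] (A : Sylow p Y), IsElementaryAbelian p (A : Subgroup Y) →
    ∀ B : Subgroup Y, IsStronglyClosed B (A : Subgroup Y) →
      ∃ N : Subgroup Y, N.Normal ∧ B ≤ N ∧ ¬ p ∣ B.relIndex N

variable {G : Type u} [Group G]

/-- a maximal `p`-subgroup `A` of `W` as a Sylow subgroup of `W` -/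
def sylOf {p : ℕ} {W A : Subgroup G} (hAp : IsPGroup p A) (hAW : A ≤ W)
    (hmax : ∀ T : Subgroup G, T ≤ W → IsPGroup p T → A ≤ T → T ≤ A) : Sylow p W :=
  { toSubgroup := A.subgroupOf W
    isPGroup' := hAp.comap_of_injective W.subtype W.subtype_injective
    is_maximal' := by
      intro T hT hle
      apply le_antisymm _ hle
      intro x hx
      have h1 : T.map W.subtype ≤ A := by
        refine hmax _ ?_ (hT.map _) ?_
        · rintro _ ⟨y, -, rfl⟩
          exact y.2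
        · intro a ha
          exact ⟨⟨a, hAW ha⟩, hle (by exact ha), rfl⟩
      exact h1 ⟨x, hx, rfl⟩ }

theorem coe_sylOf {p : ℕ} {W A : Subgroup G} (hAp : IsPGroup p A) (hAW : A ≤ W)
    (hmax : ∀ T : Subgroup G, T ≤ W → IsPGroup p T → A ≤ T → T ≤ A) :
    (sylOf hAp hAW hmax : Subgroup W) = A.subgroupOf W := rfl

/-- the statement for subgroups -/
theorem sc_sub [Finite G] {p : ℕ} (h : SCThm.{u} p) {W A B : Subgroup G} (hBA : B ≤ A) (hAW : A ≤ W)
    (hab : ∀ x ∈ A, ∀ y ∈ A, x * y = y * x) (hp : ∀ x ∈ A, x ^ p = 1)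
    (hmax : ∀ T : Subgroup G, T ≤ W → IsPGroup p T → A ≤ T → T ≤ A)
    (hsc : ∀ x ∈ B, ∀ g ∈ W, g * x * g⁻¹ ∈ A → g * x * g⁻¹ ∈ B) :
    ∃ N : Subgroup G, N ≤ W ∧ (∀ w ∈ W, ∀ n ∈ N, w * n * w⁻¹ ∈ N) ∧ B ≤ N ∧ ¬ p ∣ B.relIndex N := by
  have hAp : IsPGroup p A := isPGroup_of_pow hp
  obtain ⟨N, hN, hBN, hidx⟩ := h W (sylOf hAp hAW hmax) (by
    rw [coe_sylOf]
    refine ⟨⟨⟨fun a b => ?_⟩⟩, fun a ha => ?_⟩
    · apply Subtype.ext
      apply Subtype.ext
      exact hab _ a.2 _ b.2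
    · apply Subtype.ext
      simpa using hp _ ha) (B.subgroupOf W) (by
    rw [coe_sylOf]
    refine ⟨fun x hx => hBA hx, fun x hx g hg => hsc x hx g g.2 hg⟩)
  have hBW : B ≤ W := hBA.trans hAW
  refine ⟨N.map W.subtype, ?_, ?_, ?_, ?_⟩
  · rintro _ ⟨y, -, rfl⟩
    exact y.2
  · rintro w hw _ ⟨y, hy, rfl⟩
    exact ⟨⟨w, hw⟩ * y * ⟨w, hw⟩⁻¹, hN.conj_mem y hy ⟨w, hw⟩, rfl⟩
  · intro b hb
    exact ⟨⟨b, hBW hb⟩, hBN (by exact hb), rfl⟩
  · have h1 : N = (N.map W.subtype).subgroupOf W := by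
      ext y
      constructor
      · intro hy
        exact ⟨y, hy, rfl⟩
      · rintro ⟨y', hy', he⟩
        have : y' = y := Subtype.ext he
        rwa [← this]
    rw [h1, relIndex_subgroupOf (by rintro _ ⟨y, -, rfl⟩; exact y.2)] at hidx
    exact hidx

/-- fusion in an abelian Sylow subgroup `A` of `W` -/
theorem fusion [Finite G] {p : ℕ} [Fact p.Prime] {W A : Subgroup G} (hAp : IsPGroup p A) (hAW : A ≤ W)
    (hab : ∀ x ∈ A, ∀ y ∈ A, x * y = y * x)
    (hmax : ∀ T : Subgroup G, T ≤ W → IsPGroup p T → A ≤ T → T ≤ A) {x g : G} (hx : x ∈ A) (hg : g ∈ W)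
    (hgx : g * x * g⁻¹ ∈ A) : ∃ k ∈ W, (∀ a ∈ A, k * a * k⁻¹ ∈ A) ∧ g * x * g⁻¹ = k * x * k⁻¹ := by
  have hcomm : IsMulCommutative (sylOf hAp hAW hmax : Subgroup W) :=
    ⟨⟨fun a b => Subtype.ext (Subtype.ext (hab _ a.2 _ b.2))⟩⟩
  obtain ⟨n, hn, h⟩ := (sylOf hAp hAW hmax).conj_eq_normalizer_conj_of_mem ⟨x, hAW hx⟩ ⟨g, hg⟩⁻¹ hx (by
    rw [inv_inv]
    exact hgx)
  rw [inv_inv] at h
  refine ⟨(n : G)⁻¹, W.inv_mem n.2, fun a ha => ?_, ?_⟩
  · rw [inv_inv]
    have h1 : n⁻¹ ∈ normalizer (((sylOf hAp hAW hmax : Sylow p W) : Subgroup W) : Set W) := inv_mem hn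
    have h2 := ((mem_normalizer_iff.1 h1) ⟨a, hAW ha⟩).1 ha
    rw [inv_inv] at h2
    exact h2
  · rw [inv_inv]
    exact congrArg Subtype.val h

/-- the product of two commuting subgroups -/
def commProd (A B : Subgroup G) (h : ∀ a ∈ A, ∀ b ∈ B, a * b = b * a) : Subgroup G where
  carrier := {x | ∃ a ∈ A, ∃ b ∈ B, x = a * b}
  one_mem' := ⟨1, A.one_mem, 1, B.one_mem, by simp⟩
  mul_mem' := by
    rintro _ _ ⟨a, ha, b, hb, rfl⟩ ⟨a', ha', b', hb', rfl⟩
    refine ⟨a * a', A.mul_mem ha ha', b * b', B.mul_mem hb hb', ?_⟩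
    calc a * b * (a' * b') = a * (b * a') * b' := by group
      _ = a * (a' * b) * b' := by rw [h a' ha' b hb]
      _ = a * a' * (b * b') := by group
  inv_mem' := by
    rintro _ ⟨a, ha, b, hb, rfl⟩
    refine ⟨a⁻¹, A.inv_mem ha, b⁻¹, B.inv_mem hb, ?_⟩
    rw [mul_inv_rev, h _ (A.inv_mem ha) _ (B.inv_mem hb)]

theorem mem_commProd {A B : Subgroup G} {h : ∀ a ∈ A, ∀ b ∈ B, a * b = b * a} {x : G} :
    x ∈ commProd A B h ↔ ∃ a ∈ A, ∃ b ∈ B, x = a * b := Iff.rfl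

namespace Setup

variable {C Z Q P M D : Subgroup G} {t : G}

/-- subgroups of `C` with Sylow 3-subgroup `M` normalise `M` -/
theorem norm_of_syl [Finite G] (S : Setup C Z Q P M D t) {X : Subgroup G} (hXC : X ≤ C) (hMX : M ≤ X)
    (hmax : ∀ T : Subgroup G, T ≤ X → IsPGroup 3 T → M ≤ T → T ≤ M) : X ≤ normalizer (M : Set G) := by
  have h1 : (Q ⊓ X) ⊔ M ≤ M := by
    refine hmax _ (sup_le inf_le_right hMX) (S.P3.to_le (sup_le (inf_le_left.trans S.QP) S.MP)) le_sup_right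
  have h2 : Q ⊓ X ≤ M := le_sup_left.trans h1
  obtain ⟨v, hvQ, hvM, hvZ⟩ := S.QM
  intro x hx
  refine mem_normalizer_of_conj_le fun m hm => ?_
  have h3 : x * v * x⁻¹ ∈ Q := S.Qn x (hXC hx) v hvQ
  have h4 : x * v * x⁻¹ ∈ M := h2 ⟨h3, X.mul_mem (X.mul_mem hx (hMX hvM)) (X.inv_mem hx)⟩
  have h5 : x * v * x⁻¹ ∉ Z := by
    intro h6
    have h7 := S.C_le_H (hXC hx)
    rw [mem_normalizer_iff] at h7
    exact hvZ ((h7 v).2 h6)
  refine S.centQM _ h3 h4 h5 _ (hXC (X.mul_mem (X.mul_mem hx (hMX hm)) (X.inv_mem hx))) ?_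
  have h6 := S.Mab m hm v hvM
  calc x * m * x⁻¹ * (x * v * x⁻¹) = x * (m * v) * x⁻¹ := by group
    _ = x * (v * m) * x⁻¹ := by rw [h6]
    _ = x * v * x⁻¹ * (x * m * x⁻¹) := by group

/-- an element of `N_G(M) ∩ N_G(P) ∩ N_G(Z)` acting trivially on `M/Z` is in `C` -/
theorem mem_C_of_act [Finite G] (S : Setup C Z Q P M D t) {k : G} (hkM : k ∈ normalizer (M : Set G))
    (hkP : k ∈ normalizer (P : Set G)) (hkZ : k ∈ normalizer (Z : Set G))
    (hk : ∀ m ∈ M, k * m * k⁻¹ * m⁻¹ ∈ Z) : k ∈ C := by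
  obtain ⟨v, hvQ, hvM, hvZ⟩ := S.QM
  -- an element of `P` outside `M`
  obtain ⟨u, huP, huM⟩ : ∃ u ∈ P, u ∉ M := by
    by_contra hcon
    have h1 : ∀ u ∈ P, u ∈ M := by
      intro u hu
      by_contra h
      exact hcon ⟨u, hu, h⟩
    exact hvZ (S.Pcent v (S.MP hvM) fun y hy => S.Mab v hvM y (h1 y hy))
  rw [mem_normalizer_iff] at hkM hkP hkZ
  have huC := S.PC huP
  have hz : u * v * u⁻¹ * v⁻¹ ∈ Z := S.commPQM u huP v hvQ hvM
  have hz1 : u * v * u⁻¹ * v⁻¹ ≠ 1 := by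
    intro h
    apply huM
    refine S.centQM v hvQ hvM hvZ u huC ?_
    rw [mul_inv_eq_one, mul_inv_eq_iff_eq_mul] at h
    exact h
  -- `k u k⁻¹ u⁻¹ ∈ M`
  have hw : k * u * k⁻¹ * u⁻¹ ∈ M := by
    refine S.actM _ (P.mul_mem ((hkP u).1 huP) (P.inv_mem huP)) fun m hm => ?_
    have h1 := S.P_norm_M (P.inv_mem huP)
    rw [mem_normalizer_iff] at h1
    have hm1 : u⁻¹ * m * u ∈ M := by
      have := (h1 m).1 hm
      rwa [inv_inv] at this
    -- `k⁻¹ m1 k = z1 m1`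
    have hm2 : k⁻¹ * (u⁻¹ * m * u) * k ∈ M := by
      rw [hkM]
      have : k * (k⁻¹ * (u⁻¹ * m * u) * k) * k⁻¹ = u⁻¹ * m * u := by group
      rw [this]; exact hm1
    have hz1 := hk _ hm2
    have e1 : k * (k⁻¹ * (u⁻¹ * m * u) * k) * k⁻¹ * (k⁻¹ * (u⁻¹ * m * u) * k)⁻¹ =
        (u⁻¹ * m * u) * (k⁻¹ * (u⁻¹ * m * u) * k)⁻¹ := by group
    rw [e1] at hz1
    -- `z1 := m1 (k⁻¹ m1 k)⁻¹ ∈ Z`
    obtain ⟨z1, hz1def⟩ : ∃ z1, z1 = (u⁻¹ * m * u) * (k⁻¹ * (u⁻¹ * m * u) * k)⁻¹ := ⟨_, rfl⟩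
    rw [← hz1def] at hz1
    have e2 : k⁻¹ * (u⁻¹ * m * u) * k = z1⁻¹ * (u⁻¹ * m * u) := by rw [hz1def]; group
    have hzu := S.zcomm (Z.inv_mem hz1) huC
    -- `u (k⁻¹ m1 k) u⁻¹ = z1⁻¹ m`
    have e3 : u * (k⁻¹ * (u⁻¹ * m * u) * k) * u⁻¹ = z1⁻¹ * m := by
      rw [e2]
      calc u * (z1⁻¹ * (u⁻¹ * m * u)) * u⁻¹ = (u * z1⁻¹) * u⁻¹ * m := by group
        _ = (z1⁻¹ * u) * u⁻¹ * m := by rw [hzu]
        _ = z1⁻¹ * m := by group
    have e4 : k * u * k⁻¹ * u⁻¹ * m * (k * u * k⁻¹ * u⁻¹)⁻¹ * m⁻¹ =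
        (k * z1⁻¹ * k⁻¹) * (k * m * k⁻¹ * m⁻¹) := by
      calc k * u * k⁻¹ * u⁻¹ * m * (k * u * k⁻¹ * u⁻¹)⁻¹ * m⁻¹ =
          k * (u * (k⁻¹ * (u⁻¹ * m * u) * k) * u⁻¹) * k⁻¹ * m⁻¹ := by group
        _ = k * (z1⁻¹ * m) * k⁻¹ * m⁻¹ := by rw [e3]
        _ = (k * z1⁻¹ * k⁻¹) * (k * m * k⁻¹ * m⁻¹) := by group
    rw [e4]
    exact Z.mul_mem ((hkZ _).1 (Z.inv_mem hz1)) (hk m hm)
  -- `k` centralises the commutator
  rw [S.cent _ hz hz1]
  obtain ⟨w, hwdef⟩ : ∃ w, w = k * u * k⁻¹ * u⁻¹ := ⟨_, rfl⟩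
  rw [← hwdef] at hw
  have e1 : k * u * k⁻¹ = w * u := by rw [hwdef]; group
  have hz2 := hk v hvM
  obtain ⟨z2, hz2def⟩ : ∃ z2, z2 = k * v * k⁻¹ * v⁻¹ := ⟨_, rfl⟩
  rw [← hz2def] at hz2
  have e2 : k * v * k⁻¹ = z2 * v := by rw [hz2def]; group
  have hwC := S.MC hw
  have c1 := S.zcomm hz2 (C.mul_mem hwC huC)
  have c2 := S.zcomm hz hwC
  have c3 := S.Mab w hw v hvM
  have key : k * (u * v * u⁻¹ * v⁻¹) * k⁻¹ = u * v * u⁻¹ * v⁻¹ := by
    calc k * (u * v * u⁻¹ * v⁻¹) * k⁻¹ =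
        (k * u * k⁻¹) * (k * v * k⁻¹) * (k * u * k⁻¹)⁻¹ * (k * v * k⁻¹)⁻¹ := by group
      _ = (w * u) * (z2 * v) * (w * u)⁻¹ * (z2 * v)⁻¹ := by rw [e1, e2]
      _ = ((w * u) * z2) * v * (w * u)⁻¹ * v⁻¹ * z2⁻¹ := by group
      _ = (z2 * (w * u)) * v * (w * u)⁻¹ * v⁻¹ * z2⁻¹ := by rw [c1]
      _ = z2 * (w * (u * v * u⁻¹ * v⁻¹) * (v * w⁻¹) * v⁻¹) * z2⁻¹ := by group
      _ = z2 * ((u * v * u⁻¹ * v⁻¹) * w * (v * w⁻¹) * v⁻¹) * z2⁻¹ := by rw [c2]
      _ = z2 * ((u * v * u⁻¹ * v⁻¹) * (w * v) * w⁻¹ * v⁻¹) * z2⁻¹ := by group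
      _ = z2 * ((u * v * u⁻¹ * v⁻¹) * (v * w) * w⁻¹ * v⁻¹) * z2⁻¹ := by rw [c3]
      _ = z2 * (u * v * u⁻¹ * v⁻¹) * z2⁻¹ := by group
      _ = u * v * u⁻¹ * v⁻¹ * z2 * z2⁻¹ := by rw [S.zcomm hz (S.zC hz2)]
      _ = u * v * u⁻¹ * v⁻¹ := by group
  calc k * (u * v * u⁻¹ * v⁻¹) = k * (u * v * u⁻¹ * v⁻¹) * k⁻¹ * k := by group
    _ = u * v * u⁻¹ * v⁻¹ * k := by rw [key]

/-- if `Z` is a Sylow 3-subgroup of `N` and `N ∩ N_G(Z) ≤ C` then `N ≤ C` (Burnside) -/
theorem le_C_of_burnside [Finite G] (S : Setup C Z Q P M D t) {N : Subgroup G} (hZN : Z ≤ N)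
    (hidx : ¬ 3 ∣ Z.relIndex N) (hk : ∀ k ∈ N, k ∈ normalizer (Z : Set G) → k ∈ C) : N ≤ C := by
  have : Fact (Nat.Prime 3) := ⟨Nat.prime_three⟩
  have hZp : IsPGroup 3 (Z.subgroupOf N) := S.Zp.comap_of_injective N.subtype N.subtype_injective
  let T : Sylow 3 N := hZp.toSylow (by rwa [← relIndex])
  have hT : (T : Subgroup N) = Z.subgroupOf N := rfl
  have hTn : normalizer ((T : Subgroup N) : Set N) ≤ centralizer ((T : Subgroup N) : Set N) := by
    intro k hkn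
    rw [mem_normalizer_iff] at hkn
    have h1 : (k : G) ∈ normalizer (Z : Set G) := by
      refine mem_normalizer_of_conj_le fun z hz => ?_
      exact (hkn ⟨z, hZN hz⟩).1 hz
    rw [mem_centralizer_iff]
    intro z hz
    apply Subtype.ext
    exact (S.zcomm (hz : (z : G) ∈ Z) (hk k k.2 h1)).symm
  have hc := MonoidHom.ker_transferSylow_isComplement' T hTn
  have hnd := MonoidHom.not_dvd_card_ker_transferSylow T hTn
  obtain ⟨K, hK⟩ : ∃ K, K = (MonoidHom.transferSylow T hTn).ker := ⟨_, rfl⟩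
  have hKn : K.Normal := by rw [hK]; infer_instance
  rw [← hK] at hc hnd
  have hKC : K.map N.subtype ≤ C := by
    refine S.le_C_of_coprime ?_ ?_
    · rw [Nat.Prime.coprime_iff_not_dvd Nat.prime_three,
        Nat.card_congr (K.equivMapOfInjective _ N.subtype_injective).symm.toEquiv]
      exact hnd
    · rintro z hz _ ⟨x, hx, rfl⟩
      exact ⟨⟨z, hZN hz⟩ * x * ⟨z, hZN hz⟩⁻¹, hKn.conj_mem x hx _, rfl⟩
  intro n hn
  obtain ⟨⟨k, z⟩, hkz, -⟩ := hc.existsUnique ⟨n, hn⟩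
  have h1 : (n : G) = ((k : N) : G) * ((z : N) : G) := by
    have := congrArg (fun x : N => (x : G)) hkz
    simpa using this.symm
  rw [h1]
  have h2 : ((z : N) : G) ∈ Z := z.2
  exact C.mul_mem (hKC ⟨k, k.2, rfl⟩) (S.zC h2)

/-- **subgroups with Sylow 3-subgroup `M` normalise `Z`** -/
theorem le_H_of_syl [Finite G] (S : Setup C Z Q P M D t) (hSC : SCThm.{u} 3)
    (hN : normalizer (M : Set G) ≤ normalizer (P : Set G)) {W : Subgroup G} (hMW : M ≤ W)
    (hmax : ∀ T : Subgroup G, T ≤ W → IsPGroup 3 T → M ≤ T → T ≤ M) : W ≤ normalizer (Z : Set G) := by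
  have : Fact (Nat.Prime 3) := ⟨Nat.prime_three⟩
  obtain ⟨N, hNW, hNn, hZN, hidx⟩ := sc_sub hSC S.ZM hMW S.Mab S.M3 hmax (by
    intro x hx g _ hgx
    exact S.strongly_closed hN hx (S.MP hgx))
  have hX : C ⊓ W ≤ normalizer (M : Set G) :=
    S.norm_of_syl inf_le_left (le_inf S.MC hMW) fun T hT => hmax T (hT.trans inf_le_right)
  have hNC : N ≤ C := by
    refine S.le_C_of_burnside hZN hidx fun k hkN hkZ => ?_
    have hkW := hNW hkN
    have hkC := S.mem_H_iff.1 hkZ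
    -- `k` normalises `M`
    have hkM : k ∈ normalizer (M : Set G) := by
      refine mem_normalizer_of_conj_le fun x hx => ?_
      have h1 : M.map (MulAut.conj k).toMonoidHom ≤ C ⊓ W := by
        rintro _ ⟨y, hy, rfl⟩
        refine ⟨(hkC y).1 (S.MC hy), ?_⟩
        exact W.mul_mem (W.mul_mem hkW (hMW hy)) (W.inv_mem hkW)
      have h2 : IsPGroup 3 (M ⊔ M.map (MulAut.conj k).toMonoidHom : Subgroup G) := by
        exact IsPGroup.to_sup_of_normal_left' S.Mp (S.Mp.map _) (h1.trans hX)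
      have h3 := hmax _ (sup_le hMW (h1.trans inf_le_right)) h2 le_sup_left
      exact h3 (le_sup_right (a := M) (conj_mem_map hx))
    refine S.mem_C_of_act hkM (hN hkM) hkZ fun m hm => ?_
    -- `[k, m] ∈ N ∩ M ≤ Z`
    have h1 : k * m * k⁻¹ * m⁻¹ ∈ N := by
      have h2 : k * m * k⁻¹ * m⁻¹ = k * (m * k⁻¹ * m⁻¹) := by group
      rw [h2]
      exact N.mul_mem hkN (hNn m (hMW hm) _ (N.inv_mem hkN))
    have h2 : k * m * k⁻¹ * m⁻¹ ∈ M := M.mul_mem (((mem_normalizer_iff.1 hkM) m).1 hm) (M.inv_mem hm)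
    have h3 : N ⊓ M ≤ Z := le_of_syl (le_inf hZN S.ZM) inf_le_left (S.Mp.to_le inf_le_right) hidx
    exact h3 ⟨h1, h2⟩
  -- `Z` is normalised by `W`
  intro w hw
  refine mem_normalizer_of_conj_le fun z hz => ?_
  have h1 : Z.map (MulAut.conj w).toMonoidHom ≤ N := by
    rintro _ ⟨y, hy, rfl⟩
    exact hNn w hw y (hZN hy)
  have h2 : IsPGroup 3 (Z ⊔ Z.map (MulAut.conj w).toMonoidHom : Subgroup G) :=
    IsPGroup.to_sup_of_normal_left' S.Zp (S.Zp.map _) ((h1.trans hNC).trans S.C_le_H)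
  have h3 := le_of_syl (le_sup_left) (sup_le hZN h1) h2 hidx
  exact h3 (le_sup_right (a := Z) (conj_mem_map hz))

/-- the subgroup generated by an element with `x ^ 3 = 1` is a 3-group -/
theorem zpowers_isPGroup {G : Type*} [Group G] {x : G} (hx : x ^ 3 = 1) : IsPGroup 3 (zpowers x) := by
  refine isPGroup_of_pow fun y hy => ?_
  obtain ⟨k, rfl⟩ := mem_zpowers_iff.1 hy
  rw [← zpow_natCast, ← zpow_mul, mul_comm, zpow_mul, zpow_natCast, hx, one_zpow]

/-- **centralizers of elements of order 3 of `C` normalise `Z`** -/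
theorem centralizer_le_H [Finite G] (S : Setup C Z Q P M D t) (hSC : SCThm.{u} 3)
    (hN : normalizer (M : Set G) ≤ normalizer (P : Set G)) {v : G} (hv : v ∈ C) (hv3 : v ^ 3 = 1) (hv1 : v ≠ 1)
    {g : G} (hg : g * v = v * g) : g ∈ normalizer (Z : Set G) := by
  -- elements of `M - Z`
  have main : ∀ v ∈ M, v ∉ Z → ∀ g : G, g * v = v * g → g ∈ normalizer (Z : Set G) := by
    intro v hv hvZ g hg
    have h1 := S.le_H_of_syl hSC hN (W := centralizer ({v} : Set G)) ?_ ?_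
    · apply h1
      rw [mem_centralizer_iff]
      rintro y rfl
      exact hg.symm
    · intro m hm
      rw [mem_centralizer_iff]
      rintro y rfl
      exact S.Mab _ hv m hm
    · intro T hT hTp hMT
      have hTC := S.le_C_of_Z_le hN hTp (S.ZM.trans hMT)
      obtain ⟨c, hc, hcT⟩ := S.conjPC hTC hTp
      have hcM : c ∈ normalizer (M : Set G) := S.norm_M fun x hx => hcT x (hMT hx)
      have hcP := hN hcM
      rw [mem_normalizer_iff] at hcP
      intro x hx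
      refine S.centPM v hv hvZ x ((hcP x).2 (hcT x hx)) ?_
      exact ((mem_centralizer_iff.1 (hT hx)) v rfl).symm
  -- move into `P`
  obtain ⟨c, hc, hcv⟩ := S.conjPC (by rwa [zpowers_le]) (zpowers_isPGroup hv3)
  have h1 := hcv v (mem_zpowers v)
  have h2 : (c * v * c⁻¹) ^ 3 = 1 := by rw [conj_pow, hv3]; simp
  by_cases hvZ : v ∈ Z
  · exact S.C_le_H ((S.cent v hvZ hv1 g).2 hg)
  have hcH := S.C_le_H hc
  have fin : ∀ c ∈ C, c * v * c⁻¹ ∈ M → g ∈ normalizer (Z : Set G) := by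
    intro c hc hM
    have hcH := S.C_le_H hc
    have h3 : c * v * c⁻¹ ∉ Z := by
      intro h4
      rw [mem_normalizer_iff] at hcH
      exact hvZ ((hcH v).2 h4)
    have h4 := main _ hM h3 (c * g * c⁻¹) (by
      calc c * g * c⁻¹ * (c * v * c⁻¹) = c * (g * v) * c⁻¹ := by group
        _ = c * (v * g) * c⁻¹ := by rw [hg]
        _ = c * v * c⁻¹ * (c * g * c⁻¹) := by group)
    have h5 : g = c⁻¹ * (c * g * c⁻¹) * c := by group
    rw [h5]
    exact mul_mem (mul_mem (inv_mem hcH) h4) hcH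
  rcases S.elts _ h1 h2 with h | h
  · exact fin c hc h
  · obtain ⟨w, hwQ, hwM, hwZ⟩ := S.QM
    have h3 : c * v * c⁻¹ ∉ Z := by
      intro h4
      rw [mem_normalizer_iff] at hcH
      exact hvZ ((hcH v).2 h4)
    obtain ⟨c', hc', hw⟩ := S.Qconj _ h h3 w hwQ hwZ
    refine fin (c' * c) (C.mul_mem hc' hc) ?_
    have h4 : c' * c * v * (c' * c)⁻¹ = c' * (c * v * c⁻¹) * c'⁻¹ := by group
    rw [h4, hw]
    exact hwM

/-- **the centralizer of `t` normalises `Z`** -/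
theorem centralizer_t_le_H [Finite G] (S : Setup C Z Q P M D t) (hSC : SCThm.{u} 3)
    (hN : normalizer (M : Set G) ≤ normalizer (P : Set G)) {y : G} (hy : y * t = t * y) :
    y ∈ normalizer (Z : Set G) := by
  have h3p : Fact (Nat.Prime 3) := ⟨Nat.prime_three⟩
  obtain ⟨R, hRD, hRidx, hRne, hRab, hR3⟩ := S.D3
  obtain ⟨Y, hYdef⟩ : ∃ Y, Y = centralizer ({t} : Set G) := ⟨_, rfl⟩
  have memY : ∀ g, g ∈ Y ↔ g * t = t * g := by
    intro g
    rw [hYdef, mem_centralizer_iff]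
    exact ⟨fun h => (h t rfl).symm, fun h x hx => by rw [Set.mem_singleton_iff.1 hx]; exact h.symm⟩
  have hRC : R ≤ C := hRD.trans S.DC
  have hZY : Z ≤ Y := fun z hz => (memY z).2 (S.zcomm hz S.tC).symm
  have hDY : D ≤ Y := fun d hd => (memY d).2 (S.Dt d hd)
  have hZRn : Z ≤ normalizer (R : Set G) := by
    intro z hz
    refine mem_normalizer_of_conj_le fun r hr => ?_
    have : z * r * z⁻¹ = r := by rw [← S.zcomm hz (hRC hr), mul_inv_cancel_right]
    rw [this]; exact hr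
  -- the Sylow subgroup `A = Z R` of `Y`
  have hZR : ∀ a ∈ Z, ∀ b ∈ R, a * b = b * a := fun a ha b hb => (S.zcomm ha (hRC hb)).symm
  obtain ⟨A, hAdef⟩ : ∃ A, A = commProd Z R hZR := ⟨_, rfl⟩
  have memA : ∀ x, x ∈ A ↔ ∃ z ∈ Z, ∃ r ∈ R, x = z * r := by
    intro x
    rw [hAdef, mem_commProd]
  have hZA : Z ≤ A := fun z hz => (memA z).2 ⟨z, hz, 1, R.one_mem, (mul_one z).symm⟩
  have hRA : R ≤ A := fun r hr => (memA r).2 ⟨1, Z.one_mem, r, hr, (one_mul r).symm⟩
  have hAC : A ≤ C := by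
    intro x hx
    obtain ⟨z, hz, r, hr, rfl⟩ := (memA x).1 hx
    exact C.mul_mem (S.zC hz) (hRC hr)
  have hAY : A ≤ Y := by
    intro x hx
    obtain ⟨z, hz, r, hr, rfl⟩ := (memA x).1 hx
    exact Y.mul_mem (hZY hz) (hDY (hRD hr))
  have hAab : ∀ x ∈ A, ∀ y ∈ A, x * y = y * x := by
    intro x hx y hy
    obtain ⟨z, hz, r, hr, rfl⟩ := (memA x).1 hx
    obtain ⟨z', hz', r', hr', rfl⟩ := (memA y).1 hy
    have c1 := S.zcomm hz (hRC hr)
    have c2 := S.zcomm hz' (hRC hr')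
    have c3 := S.zcomm hz (S.zC hz')
    have c4 := hRab r hr r' hr'
    have c5 := S.zcomm hz' (hRC hr)
    have c6 := S.zcomm hz (hRC hr')
    calc z * r * (z' * r') = z * (r * z') * r' := by group
      _ = z * (z' * r) * r' := by rw [c5]
      _ = (z' * z) * (r * r') := by rw [c3]; group
      _ = z' * (z * r') * r := by rw [c4]; group
      _ = z' * (r' * z) * r := by rw [c6]
      _ = z' * r' * (z * r) := by group
  have hA3 : ∀ x ∈ A, x ^ 3 = 1 := by
    intro x hx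
    obtain ⟨z, hz, r, hr, rfl⟩ := (memA x).1 hx
    rw [(show Commute z r from (S.zcomm hz (hRC hr)).symm).mul_pow, S.Z3 z hz, hR3 r hr, one_mul]
  have hAp : IsPGroup 3 A := isPGroup_of_pow hA3
  have hRZ : ∀ x ∈ R, x ∈ Z → x = 1 := by
    intro x hx hxZ
    have h1 : x ∈ D ⊓ Z := ⟨hRD hx, hxZ⟩
    rwa [S.DZ, mem_bot] at h1
  have hmax : ∀ T : Subgroup G, T ≤ Y → IsPGroup 3 T → A ≤ T → T ≤ A := by
    intro T hTY hT hAT x hx
    have hTC := S.le_C_of_Z_le hN hT (hZA.trans hAT)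
    obtain ⟨z, hz, d, hd, rfl⟩ := S.centt x (hTC hx) ((memY x).1 (hTY hx))
    have h1 : T ⊓ D ≤ R := le_of_syl (le_inf (hRA.trans hAT) hRD) inf_le_right (hT.to_le inf_le_left) hRidx
    refine (memA _).2 ⟨z, hz, d, h1 ⟨?_, hd⟩, rfl⟩
    have h2 : d = z⁻¹ * (z * d) := by group
    rw [h2]
    exact T.mul_mem (T.inv_mem (hAT (hZA hz))) hx
  obtain ⟨N1, hN1Y, hN1n, hZN1, hidx1⟩ := sc_sub hSC hZA hAY hAab hA3 hmax
    (fun x hx g _ hgx => S.strongly_closed' hN hx (hAC hgx))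
  obtain ⟨N2, hN2Y, hN2n, hRN2, hidx2⟩ := sc_sub hSC hRA hAY hAab hA3 hmax (by
    intro r hr g hg hgr
    obtain ⟨k, hkY, hkA, hk⟩ := fusion hAp hAY hAab hmax (hRA hr) hg hgr
    have hkZ : k ∈ normalizer (Z : Set G) := mem_normalizer_of_conj_le fun z hz =>
      S.strongly_closed' hN hz (hAC (hkA z (hZA hz)))
    have hkC := S.mem_H_iff.1 hkZ
    have hkD : D.map (MulAut.conj k).toMonoidHom ≤ D := by
      have h1 : D.map (MulAut.conj k).toMonoidHom = ⁅D, D⁆.map (MulAut.conj k).toMonoidHom := by rw [S.Dperf]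
      rw [h1, Subgroup.map_commutator, Subgroup.commutator_le]
      have h2 : ∀ a ∈ D.map (MulAut.conj k).toMonoidHom, ∃ z ∈ Z, ∃ d ∈ D, a = z * d := by
        rintro _ ⟨d, hd, rfl⟩
        refine S.centt _ ((hkC d).1 (S.DC hd)) ?_
        exact (memY _).1 (Y.mul_mem (Y.mul_mem hkY (hDY hd)) (Y.inv_mem hkY))
      intro a ha b hb
      obtain ⟨z, hz, d, hd, rfl⟩ := h2 a ha
      obtain ⟨z', hz', d', hd', rfl⟩ := h2 b hb
      have c1 := S.zcomm hz (S.DC hd)
      have c2 := S.zcomm hz' (S.DC hd')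
      have c3 := S.zcomm hz (S.zC hz')
      have c4 := S.zcomm hz (S.DC hd')
      have c5 := S.zcomm hz' (S.DC hd)
      have h3 : ⁅z * d, z' * d'⁆ = ⁅d, d'⁆ := by
        have e1 : z * d * (z' * d') = z * z' * (d * d') := by
          calc z * d * (z' * d') = z * (d * z') * d' := by group
            _ = z * (z' * d) * d' := by rw [c5]
            _ = z * z' * (d * d') := by group
        have e2 : z' * d' * (z * d) = z' * z * (d' * d) := by
          calc z' * d' * (z * d) = z' * (d' * z) * d := by group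
            _ = z' * (z * d') * d := by rw [c4]
            _ = z' * z * (d' * d) := by group
        have c6 : z * z' * (d * d') = (d * d') * (z * z') :=
          (S.zcomm (Z.mul_mem hz hz') (C.mul_mem (S.DC hd) (S.DC hd'))).symm
        have c8 : (d' * d)⁻¹ * (z' * z) = (z' * z) * (d' * d)⁻¹ :=
          S.zcomm (Z.mul_mem hz' hz) (C.inv_mem (C.mul_mem (S.DC hd') (S.DC hd)))
        rw [commutatorElement_def, commutatorElement_def]
        calc z * d * (z' * d') * (z * d)⁻¹ * (z' * d')⁻¹ = (z * d * (z' * d')) * (z' * d' * (z * d))⁻¹ := by group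
          _ = (z * z' * (d * d')) * (z' * z * (d' * d))⁻¹ := by rw [e1, e2]
          _ = (d * d') * (z * z') * (z' * z * (d' * d))⁻¹ := by rw [c6]
          _ = (d * d') * (z' * z) * (z' * z * (d' * d))⁻¹ := by rw [c3]
          _ = (d * d') * ((z' * z) * (d' * d)⁻¹) * (z' * z)⁻¹ := by group
          _ = (d * d') * ((d' * d)⁻¹ * (z' * z)) * (z' * z)⁻¹ := by rw [c8]
          _ = d * d' * d⁻¹ * d'⁻¹ := by group
      rw [h3]
      rw [← S.Dperf]
      exact Subgroup.commutator_mem_commutator hd hd'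
    have h1 : g * r * g⁻¹ ∈ D := by
      rw [hk]
      exact hkD (conj_mem_map (hRD hr))
    obtain ⟨z, hz, r', hr', he⟩ := (memA _).1 hgr
    have h2 : z ∈ D ⊓ Z := by
      refine ⟨?_, hz⟩
      have h3 : z = g * r * g⁻¹ * r'⁻¹ := by rw [he]; group
      rw [h3]
      exact D.mul_mem h1 (D.inv_mem (hRD hr'))
    rw [S.DZ, mem_bot] at h2
    rw [he, h2, one_mul]
    exact hr')
  -- `E = N1 ∩ N2` is a 3'-group
  obtain ⟨E, hEdef⟩ : ∃ E, E = N1 ⊓ N2 := ⟨_, rfl⟩
  have hE1 : E ≤ N1 := by rw [hEdef]; exact inf_le_left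
  have hE2 : E ≤ N2 := by rw [hEdef]; exact inf_le_right
  have hEn : ∀ w ∈ Y, ∀ n ∈ E, w * n * w⁻¹ ∈ E := by
    intro w hw n hn
    rw [hEdef]
    exact ⟨hN1n w hw n (hE1 hn), hN2n w hw n (hE2 hn)⟩
  have hEx : ∀ x ∈ E, x ^ 3 = 1 → x = 1 := by
    intro x hx hx3
    obtain ⟨n, hn, h1⟩ := exists_conj_le S.Zp hidx1 (T := zpowers x) (by rw [zpowers_le]; exact hE1 hx)
      (zpowers_isPGroup hx3)
    have h2 := h1 x (mem_zpowers x)
    have h3 : n * x * n⁻¹ ∈ N2 := hN2n n (hN1Y hn) x (hE2 hx)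
    have h3' : (n * x * n⁻¹) ^ 3 = 1 := by rw [conj_pow, hx3]; simp
    obtain ⟨n', hn', h4⟩ := exists_conj_le (hAp.to_le hRA) hidx2 (T := zpowers (n * x * n⁻¹))
      (by rw [zpowers_le]; exact h3) (zpowers_isPGroup h3')
    have h5 := h4 _ (mem_zpowers _)
    have h6 := S.strongly_closed' hN h2 (hRC h5)
    have h7 := hRZ _ h5 h6
    have h8 : x = (n' * n)⁻¹ * (n' * (n * x * n⁻¹) * n'⁻¹) * (n' * n) := by group
    rw [h8, h7]; group
  have hE3 : Nat.Coprime 3 (Nat.card E) := by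
    rw [Nat.Prime.coprime_iff_not_dvd Nat.prime_three]
    intro hdvd
    obtain ⟨x, hx⟩ := exists_prime_orderOf_dvd_card' 3 hdvd
    have h1 : (x : G) ^ 3 = 1 := by
      rw [← hx, ← Subgroup.orderOf_coe, pow_orderOf_eq_one]
    have h2 : x = 1 := Subtype.ext (hEx _ x.2 h1)
    rw [h2, orderOf_one] at hx
    norm_num at hx
  have hEC : E ≤ C := S.le_C_of_coprime hE3 fun z hz => hEn z (hZY hz)
  -- `E` is centralised by `D`
  have hED : ∀ e ∈ E, e ∈ D → ∀ d ∈ D, d * e = e * d := by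
    rcases S.Dqs (E ⊓ D) inf_le_right (fun d hd e he => ⟨hEn d (hDY hd) e he.1,
      D.mul_mem (D.mul_mem hd he.2) (D.inv_mem hd)⟩) with h | h
    · exfalso
      apply hRne
      rw [Subgroup.eq_bot_iff_forall]
      intro r hr
      refine hEx r ?_ (hR3 r hr)
      have h1 : r ∈ E ⊓ D := by rw [h]; exact hRD hr
      exact h1.1
    · intro e he heD
      exact h e ⟨he, heD⟩
  have hED' : ⁅E, D⁆ ≤ E ⊓ D := by
    rw [Subgroup.commutator_le]
    intro e he d hd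
    refine ⟨?_, ?_⟩
    · rw [commutatorElement_def]
      have h1 : e * d * e⁻¹ * d⁻¹ = e * (d * e⁻¹ * d⁻¹) := by group
      rw [h1]
      exact E.mul_mem he (hEn d (hDY hd) _ (E.inv_mem he))
    · obtain ⟨z, hz, d0, hd0, rfl⟩ := S.centt e (hEC he) ((memY e).1 (hN1Y (hE1 he)))
      rw [commutatorElement_def]
      have c1 := S.zcomm hz (C.mul_mem (C.mul_mem (S.DC hd0) (S.DC hd)) (C.inv_mem (S.DC hd0)))
      have h1 : z * d0 * d * (z * d0)⁻¹ * d⁻¹ = d0 * d * d0⁻¹ * d⁻¹ := by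
        calc z * d0 * d * (z * d0)⁻¹ * d⁻¹ = (z * (d0 * d * d0⁻¹)) * z⁻¹ * d⁻¹ := by group
          _ = ((d0 * d * d0⁻¹) * z) * z⁻¹ * d⁻¹ := by rw [c1]
          _ = d0 * d * d0⁻¹ * d⁻¹ := by group
      rw [h1]
      exact D.mul_mem (D.mul_mem (D.mul_mem hd0 hd) (D.inv_mem hd0)) (D.inv_mem hd)
  have hEDD : ⁅⁅E, D⁆, D⁆ = ⊥ := by
    rw [Subgroup.commutator_eq_bot_iff_le_centralizer]
    intro x hx
    rw [mem_centralizer_iff]
    intro d hd
    have h1 := hED' hx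
    exact hED x h1.1 h1.2 d hd
  have hDE : ⁅D, E⁆ = ⊥ := by
    have h1 := Subgroup.commutator_commutator_eq_bot_of_rotate (H₁ := D) (H₂ := D) (H₃ := E)
      (by rw [Subgroup.commutator_comm D E]; exact hEDD) hEDD
    rwa [S.Dperf] at h1
  -- `D ≤ N2`
  have hDN2 : D ≤ N2 := by
    rcases S.Dqs (D ⊓ N2) inf_le_left (fun d hd e he => ⟨D.mul_mem (D.mul_mem hd he.1) (D.inv_mem hd),
      hN2n d (hDY hd) e he.2⟩) with h | h
    · rw [← h]; exact inf_le_right
    · exfalso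
      apply hRne
      rw [Subgroup.eq_bot_iff_forall]
      intro r hr
      exact S.Dcen r (hRD hr) (h r ⟨hRD hr, hRN2 hr⟩) (hR3 r hr)
  have hN1D : ⁅N1, D⁆ ≤ E := by
    rw [Subgroup.commutator_le]
    intro n hn d hd
    rw [commutatorElement_def, hEdef]
    refine ⟨?_, ?_⟩
    · have h1 : n * d * n⁻¹ * d⁻¹ = n * (d * n⁻¹ * d⁻¹) := by group
      rw [h1]
      exact N1.mul_mem hn (hN1n d (hDY hd) _ (N1.inv_mem hn))
    · exact N2.mul_mem (hN2n n (hN1Y hn) d (hDN2 hd)) (N2.inv_mem (hDN2 hd))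
  have hN1DD : ⁅⁅N1, D⁆, D⁆ = ⊥ := by
    rw [← le_bot_iff, ← hDE, Subgroup.commutator_comm D E]
    exact Subgroup.commutator_mono hN1D le_rfl
  have hDN1 : ⁅D, N1⁆ = ⊥ := by
    have h1 := Subgroup.commutator_commutator_eq_bot_of_rotate (H₁ := D) (H₂ := D) (H₃ := N1)
      (by rw [Subgroup.commutator_comm D N1]; exact hN1DD) hN1DD
    rwa [S.Dperf] at h1
  -- `N1 ≤ H`
  obtain ⟨r, hr, hr1⟩ : ∃ r ∈ R, r ≠ 1 := by
    by_contra hcon
    apply hRne
    rw [Subgroup.eq_bot_iff_forall]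
    intro r hr
    by_contra h
    exact hcon ⟨r, hr, h⟩
  have hN1H : N1 ≤ normalizer (Z : Set G) := by
    intro n hn
    refine S.centralizer_le_H hSC hN (hRC hr) (hR3 r hr) hr1 ?_
    rw [Subgroup.commutator_eq_bot_iff_le_centralizer] at hDN1
    exact (mem_centralizer_iff.1 (hDN1 (hRD hr))) n hn
  have hyY := (memY y).2 hy
  refine mem_normalizer_of_conj_le fun z hz => ?_
  have h1 : Z.map (MulAut.conj y).toMonoidHom ≤ N1 := by
    rintro _ ⟨x, hx, rfl⟩
    exact hN1n y hyY x (hZN1 hx)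
  have h2 : IsPGroup 3 (Z ⊔ Z.map (MulAut.conj y).toMonoidHom : Subgroup G) :=
    IsPGroup.to_sup_of_normal_left' S.Zp (S.Zp.map _) (h1.trans hN1H)
  have h3 := le_of_syl (le_sup_left) (sup_le hZN1 h1) h2 hidx1
  exact h3 (le_sup_right (a := Z) (conj_mem_map hz))

end Setup

end Cfsg.Agent.H334.Symp
end

-- part: H334/Symp/Final
section
set_option linter.all false
open scoped Cfsg.Agent.FastGrp

-- part: H334/Symp/Iso
section
/-!
# The centralizer of a `p`-central element of order `p` of `PSp(4,q)` is `El F`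
-/

set_option autoImplicit false
set_option linter.unusedSimpArgs false
set_option linter.unusedVariables false

open Matrix Subgroup

namespace Cfsg.Agent.H334.Symp

open Cfsg.Agent.H339 Cfsg.Agent.H339.SpCo

variable {F : Type*} [Field F]

theorem mul_entry (g g' : Sp F) (i j : Fin 2 ⊕ Fin 2) : (g * g').1 i j =
    g.1 i (Sum.inl 0) * g'.1 (Sum.inl 0) j + g.1 i (Sum.inl 1) * g'.1 (Sum.inl 1) j +
      (g.1 i (Sum.inr 0) * g'.1 (Sum.inr 0) j + g.1 i (Sum.inr 1) * g'.1 (Sum.inr 1) j) := by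
  have e : (g * g').1 = g.1 * g'.1 := rfl
  rw [e, Matrix.mul_apply, Fintype.sum_sum_type, Fin.sum_univ_two, Fin.sum_univ_two]

theorem rho00 (g : S1 F) : (rho F g).1 0 0 = g.1.1 (Sum.inl 1) (Sum.inl 1) := rfl
theorem rho01 (g : S1 F) : (rho F g).1 0 1 = g.1.1 (Sum.inl 1) (Sum.inr 1) := rfl
theorem rho10 (g : S1 F) : (rho F g).1 1 0 = g.1.1 (Sum.inr 1) (Sum.inl 1) := rfl
theorem rho11 (g : S1 F) : (rho F g).1 1 1 = g.1.1 (Sum.inr 1) (Sum.inr 1) := rfl

/-- coordinates on `S1` -/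
def toEl (F : Type*) [Field F] : S1 F →* El F where
  toFun g := ⟨g.1.1 (Sum.inl 0) (Sum.inr 0), g.1.1 (Sum.inl 1) (Sum.inr 0), g.1.1 (Sum.inr 1) (Sum.inr 0), rho F g⟩
  map_one' := by
    ext1
    · rfl
    · rfl
    · rfl
    · exact map_one _
  map_mul' g g' := by
    obtain ⟨e1, e2, e3⟩ := entries g.2
    obtain ⟨c1, c2, c3, c4⟩ := col_e1 g.2
    have r3 := row_f1 g'.2 (Sum.inr 0)
    simp at r3
    ext1
    · show (g * g').1.1 (Sum.inl 0) (Sum.inr 0) = _
      rw [El.mul_z]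
      simp only [rho00, rho01, rho10, rho11]
      show ((g : Sp F) * (g' : Sp F)).1 (Sum.inl 0) (Sum.inr 0) = _
      rw [mul_entry, c1, e2, e3, r3]
      ring
    · show ((g : Sp F) * (g' : Sp F)).1 (Sum.inl 1) (Sum.inr 0) = _
      rw [El.mul_x]
      simp only [rho00, rho01, rho10, rho11]
      rw [mul_entry, c2, r3]
      ring
    · show ((g : Sp F) * (g' : Sp F)).1 (Sum.inr 1) (Sum.inr 0) = _
      rw [El.mul_y]
      simp only [rho00, rho01, rho10, rho11]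
      rw [mul_entry, c4, r3]
      ring
    · exact map_mul _ _ _

theorem toEl_z (g : S1 F) : (toEl F g).z = g.1.1 (Sum.inl 0) (Sum.inr 0) := rfl
theorem toEl_x (g : S1 F) : (toEl F g).x = g.1.1 (Sum.inl 1) (Sum.inr 0) := rfl
theorem toEl_y (g : S1 F) : (toEl F g).y = g.1.1 (Sum.inr 1) (Sum.inr 0) := rfl
theorem toEl_A (g : S1 F) : (toEl F g).A = rho F g := rfl

theorem toEl_injective : Function.Injective (toEl F) := by
  rw [injective_iff_map_eq_one]
  intro g hg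
  have hz := congrArg El.z hg
  have hx := congrArg El.x hg
  have hy := congrArg El.y hg
  have hA := congrArg El.A hg
  rw [toEl_z, El.one_z] at hz
  rw [toEl_x, El.one_x] at hx
  rw [toEl_y, El.one_y] at hy
  rw [toEl_A, El.one_A] at hA
  have h00 : g.1.1 (Sum.inl 1) (Sum.inl 1) = 1 := by rw [← rho00, hA]; rfl
  have h01 : g.1.1 (Sum.inl 1) (Sum.inr 1) = 0 := by rw [← rho01, hA]; rfl
  have h10 : g.1.1 (Sum.inr 1) (Sum.inl 1) = 0 := by rw [← rho10, hA]; rfl
  obtain ⟨t, u, v, s, r, e, hr⟩ := exists_of_entry g.2 h10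
  have hr1 : r = 1 := by
    apply Units.ext
    rw [hr, h00]; rfl
  subst hr1
  have hv := e_val t u v s (1 : Fˣ)
  rw [← e] at hv
  have k1 := congrFun (congrFun hv (Sum.inl 0)) (Sum.inr 0)
  have k2 := congrFun (congrFun hv (Sum.inl 1)) (Sum.inr 0)
  have k3 := congrFun (congrFun hv (Sum.inr 1)) (Sum.inr 0)
  have k4 := congrFun (congrFun hv (Sum.inl 1)) (Sum.inr 1)
  rw [hz, fromBlocks_apply₁₂] at k1
  rw [hx, fromBlocks_apply₁₂] at k2
  rw [hy, fromBlocks_apply₂₂] at k3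
  rw [h01, fromBlocks_apply₁₂] at k4
  simp at k1 k2 k3 k4
  subst k3
  have ht : t = 0 := k4.symm
  subst ht
  have hu : u = 0 := by linear_combination -k2
  subst hu
  have hv0 : v = 0 := by linear_combination -k1
  subst hv0
  apply Subtype.ext
  rw [e]
  have h1 : m 0 0 0 = (1 : Sp F) := by
    have := congrArg Subtype.val (co F).m_zero
    rw [co_m] at this
    exact this
  have h2 : a 0 = (1 : Sp F) := congrArg Subtype.val (co F).a_zero
  have h3 : h (1 : Fˣ) = (1 : Sp F) := congrArg Subtype.val (co F).h_one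
  rw [h1, h2, h3, mul_one, mul_one]
  rfl

theorem toEl_surjective : Function.Surjective (toEl F) := by
  intro g
  have h1 : toEl F ⟨H339.SpCo.emb g.A, H339.SpCo.emb_mem g.A⟩ = El.emb F g.A := by
    ext1
    · rfl
    · rfl
    · rfl
    · exact rho_emb g.A
  have h3 : h (1 : Fˣ) = (1 : Sp F) := congrArg Subtype.val (co F).h_one
  obtain ⟨k, hk⟩ : ∃ k : S1 F, toEl F k = El.q g.z g.x g.y := by
    refine ⟨⟨m 0 g.x (g.z - g.x * g.y) * a (-g.y) * h 1,
      (S1 F).mul_mem ((S1 F).mul_mem (m_mem _ _ _) (a_mem _)) (h_mem _)⟩, ?_⟩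
    have hv := e_val 0 g.x (g.z - g.x * g.y) (-g.y) (1 : Fˣ)
    ext1
    · rw [toEl_z]
      show (m 0 g.x (g.z - g.x * g.y) * a (-g.y) * h 1).1 _ _ = _
      rw [hv, fromBlocks_apply₁₂]
      simp
    · rw [toEl_x]
      show (m 0 g.x (g.z - g.x * g.y) * a (-g.y) * h 1).1 _ _ = _
      rw [hv, fromBlocks_apply₁₂]
      simp
    · rw [toEl_y]
      show (m 0 g.x (g.z - g.x * g.y) * a (-g.y) * h 1).1 _ _ = _
      rw [hv, fromBlocks_apply₂₂]
      simp
    · rw [toEl_A]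
      apply El.sl_ext
      · rw [rho00]
        show (m 0 g.x (g.z - g.x * g.y) * a (-g.y) * h 1).1 _ _ = _
        rw [hv, fromBlocks_apply₁₁]
        simp [El.sl_one00]
      · rw [rho01]
        show (m 0 g.x (g.z - g.x * g.y) * a (-g.y) * h 1).1 _ _ = _
        rw [hv, fromBlocks_apply₁₂]
        simp [El.sl_one01]
      · rw [rho10]
        show (m 0 g.x (g.z - g.x * g.y) * a (-g.y) * h 1).1 _ _ = _
        rw [hv, fromBlocks_apply₂₁]
        simp [El.sl_one10]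
      · rw [rho11]
        show (m 0 g.x (g.z - g.x * g.y) * a (-g.y) * h 1).1 _ _ = _
        rw [hv, fromBlocks_apply₂₂]
        simp [El.sl_one11]
  refine ⟨k * ⟨H339.SpCo.emb g.A, H339.SpCo.emb_mem g.A⟩, ?_⟩
  rw [map_mul, hk, h1]
  ext1
  · simp
  · simp
  · simp
  · simp

/-- **The centralizer of a `p`-central element of order `p` of `PSp(4,q)`.** -/
theorem nonempty_iso_El [Finite F] {p n : ℕ} [Fact p.Prime] (hp2 : p ≠ 2) (hn : 1 ≤ n)
    (hF : Nat.card F = p ^ n) (hpF : (p : F) = 0) (h2 : (2 : F) ≠ 0) (x : Cfsg.PSp 2 F)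
    (hx : orderOf x = p) (Px : Sylow p (Cfsg.PSp 2 F)) (hxP : x ∈ (Px : Subgroup (Cfsg.PSp 2 F)))
    (hxc : ∀ y ∈ (Px : Subgroup (Cfsg.PSp 2 F)), y * x = x * y) :
    Nonempty (El F ≃* Subgroup.centralizer ({x} : Set (Cfsg.PSp 2 F))) := by
  obtain ⟨e⟩ := nonempty_iso hp2 hn hF hpF h2 x hx Px hxP hxc
  exact ⟨(MulEquiv.ofBijective (toEl F) ⟨toEl_injective, toEl_surjective⟩).symm.trans e⟩

end Cfsg.Agent.H334.Symp
end

-- part: H334/Symp/Main
section
/-!
# `N_G(M) ≤ N_G(P)` implies `Z ⊴ G`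

In the abstract `PSp(4, 3^m)` set-up with `N_G(M) ≤ N_G(P)` the involution `t` is isolated, so that Glauberman's
`Z*`-theorem and the theorem of Feit and Thompson give `O₃(G) ≠ 1` and `Z ⊴ G`.
-/

set_option autoImplicit false

universe u

namespace Cfsg.Agent.H334.Symp

open Subgroup Cfsg

open scoped commutatorElement

variable {G : Type u} [Group G]

/-- a nontrivial solvable normal subgroup contains a nontrivial abelian normal subgroup -/
theorem exists_abelian_normal {G : Type*} [Group G] (N : Subgroup G) [N.Normal] [Group.IsSolvable N] (hN : N ≠ ⊥) :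
    ∃ A : Subgroup G, A.Normal ∧ A ≠ ⊥ ∧ ∀ x ∈ A, ∀ y ∈ A, x * y = y * x := by
  classical
  have hex : ∃ n, derivedSeries N n = ⊥ := Group.IsSolvable.solvable
  obtain ⟨n, hn, hmin⟩ : ∃ n, derivedSeries N n = ⊥ ∧ ∀ m < n, derivedSeries N m ≠ ⊥ :=
    ⟨Nat.find hex, Nat.find_spec hex, fun m hm => Nat.find_min hex hm⟩
  cases n with
  | zero =>
    exfalso
    apply hN
    rw [derivedSeries_zero] at hn
    rw [Subgroup.eq_bot_iff_forall]
    intro x hx
    have h1 : (⟨x, hx⟩ : N) ∈ (⊤ : Subgroup N) := mem_top _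
    rw [hn, mem_bot] at h1
    exact congrArg Subtype.val h1
  | succ k =>
    have h1 := hmin k (Nat.lt_succ_self k)
    refine ⟨(derivedSeries N k).map N.subtype, inferInstance, ?_, ?_⟩
    · intro h2
      apply h1
      rwa [Subgroup.map_eq_bot_iff_of_injective _ N.subtype_injective] at h2
    · rw [derivedSeries_succ, Subgroup.commutator_eq_bot_iff_le_centralizer] at hn
      rintro _ ⟨x, hx, rfl⟩ _ ⟨y, hy, rfl⟩
      have h2 := (mem_centralizer_iff.1 (hn hx)) y hy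
      rw [← map_mul, ← h2, map_mul]

namespace Setup

variable {C Z Q P M D : Subgroup G} {t : G}

/-- conjugates of `t` in `N_G(Z)` are in `C` -/
theorem conj_t_mem_C [Finite G] (S : Setup C Z Q P M D t) (hSC : SCThm.{u} 3)
    (hN : normalizer (M : Set G) ≤ normalizer (P : Set G)) {g : G}
    (hg : g * t * g⁻¹ ∈ normalizer (Z : Set G)) : g * t * g⁻¹ ∈ C := by
  obtain ⟨s, hs⟩ : ∃ s, s = g * t * g⁻¹ := ⟨_, rfl⟩
  rw [← hs] at hg ⊢
  have hs2 : s * s = 1 := by
    have h1 : t * t = 1 := by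
      have := pow_orderOf_eq_one t
      rwa [S.t2, pow_two] at this
    rw [hs]
    calc g * t * g⁻¹ * (g * t * g⁻¹) = g * (t * t) * g⁻¹ := by group
      _ = 1 := by rw [h1]; group
  have hsinv : s⁻¹ = s := by
    rw [inv_eq_iff_mul_eq_one]
    exact hs2
  have hsC := S.mem_H_iff.1 hg
  -- `s` normalises `Q`
  have hsQ : ∀ v ∈ Q, s * v * s⁻¹ ∈ Q := by
    have h1 : Q.map (MulAut.conj s).toMonoidHom ≤ Q := by
      refine S.Qmax _ ?_ ?_ (S.Qp.map _)
      · rintro _ ⟨v, hv, rfl⟩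
        exact (hsC v).1 (S.QC hv)
      · rintro c hc _ ⟨v, hv, rfl⟩
        have h2 : s⁻¹ * c * s ∈ C := by
          rw [hsC]
          have : s * (s⁻¹ * c * s) * s⁻¹ = c := by group
          rwa [this]
        refine ⟨_, S.Qn _ h2 v hv, ?_⟩
        show s * (s⁻¹ * c * s * v * (s⁻¹ * c * s)⁻¹) * s⁻¹ = c * (s * v * s⁻¹) * c⁻¹
        group
    intro v hv
    exact h1 (conj_mem_map hv)
  -- a fixed point of `s` on `Q`
  obtain ⟨v, hv, hv1, hvs⟩ : ∃ v ∈ Q, v ≠ 1 ∧ s * v * s⁻¹ = v := by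
    by_contra hcon
    let φ : Q →* Q :=
      { toFun := fun v => ⟨s * v * s⁻¹, hsQ v v.2⟩
        map_one' := Subtype.ext (by simp)
        map_mul' := fun a b => Subtype.ext (by simp) }
    have hφ : MonoidHom.FixedPointFree φ := by
      intro v hv
      by_contra hne
      exact hcon ⟨v, v.2, fun h => hne (Subtype.ext h), congrArg Subtype.val hv⟩
    have hinv : Function.Involutive φ := by
      intro v
      apply Subtype.ext
      show s * (s * v * s⁻¹) * s⁻¹ = v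
      calc s * (s * v * s⁻¹) * s⁻¹ = (s * s) * v * (s * s)⁻¹ := by group
        _ = v := by rw [hs2]; group
    obtain ⟨v, hvQ, -, hvZ⟩ := S.QM
    obtain ⟨w, hwQ, hw1, -⟩ := S.Qcomm v hvQ hvZ
    apply hw1
    have h1 := hφ.commute_all_of_involutive hinv ⟨v, hvQ⟩ ⟨w, hwQ⟩
    have h2 : v * w = w * v := congrArg Subtype.val h1
    rw [h2]; group
  have hvC := S.QC hv
  have hv3 := S.Q3 v hv
  -- `g⁻¹ v g` commutes with `t`
  have hcomm : (g⁻¹ * v * g) * t = t * (g⁻¹ * v * g) := by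
    have h1 : v * s = s * v := by
      calc v * s = (s * v * s⁻¹) * s := by rw [hvs]
        _ = s * v := by group
    calc (g⁻¹ * v * g) * t = g⁻¹ * (v * (g * t * g⁻¹)) * g := by group
      _ = g⁻¹ * ((g * t * g⁻¹) * v) * g := by rw [← hs, h1]
      _ = t * (g⁻¹ * v * g) := by group
  have h3 : (g⁻¹ * v * g) ^ 3 = 1 := by
    have : g⁻¹ * v * g = g⁻¹ * v * g⁻¹⁻¹ := by group
    rw [this, conj_pow, hv3]; simp
  have hvC' : g⁻¹ * v * g ∈ C := S.mem_C_of_mem_H h3 (S.centralizer_t_le_H hSC hN hcomm)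
  -- `g Z g⁻¹ ≤ C`
  obtain ⟨z, hz, hz1⟩ := S.exists_mem_ne
  have h4 : (g * z * g⁻¹) * v = v * (g * z * g⁻¹) := by
    have h5 := S.zcomm hz hvC'
    calc (g * z * g⁻¹) * v = g * (z * (g⁻¹ * v * g)) * g⁻¹ := by group
      _ = g * ((g⁻¹ * v * g) * z) * g⁻¹ := by rw [h5]
      _ = v * (g * z * g⁻¹) := by group
  have h5 := S.centralizer_le_H hSC hN hvC hv3 hv1 h4
  have h6 : (g * z * g⁻¹) ^ 3 = 1 := by rw [conj_pow, S.Z3 z hz]; simp
  have h7 := S.mem_C_of_mem_H h6 h5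
  have h8 := S.mem_H_of_conj hN hz hz1 h7
  rw [S.mem_H_iff] at h8
  rw [hs]
  exact (h8 t).1 S.tC

/-- **`Z` and `C` are normal in `G`** -/
theorem main [Finite G] (S : Setup C Z Q P M D t) (hSC : SCThm.{u} 3)
    (hN : normalizer (M : Set G) ≤ normalizer (P : Set G)) (g : G) : g ∈ normalizer (Z : Set G) := by
  have h3p : Fact (Nat.Prime 3) := ⟨Nat.prime_three⟩
  -- `t` is isolated
  obtain ⟨N, hNn, hNodd, hNt⟩ := Cfsg.Agent.Cit.Parab.zstar S.t2 (by
    intro g hg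
    have h1 := S.centralizer_t_le_H hSC hN hg
    have h2 := S.conj_t_mem_C hSC hN h1
    refine S.invol _ h2 _ S.tC ?_ S.t2 hg
    rw [← S.t2]
    have := orderOf_injective (MulAut.conj g).toMonoidHom (MulAut.conj g).injective t
    simpa using this)
  have hsol : Group.IsSolvable N := Cfsg.Agent.S0205.result hNodd
  have hNne : N ≠ ⊥ := by
    rintro rfl
    obtain ⟨v, hvQ, -, hvZ⟩ := S.QM
    apply S.tinv v hvQ hvZ
    have h1 := hNt v
    rw [mem_bot] at h1
    rw [h1]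
    exact Z.one_mem
  obtain ⟨A, hAn, hAne, hAab⟩ := exists_abelian_normal N hNne
  -- `3` divides the order of `A`
  have h3A : 3 ∣ Nat.card A := by
    by_contra hnd
    exact hAne (S.eq_bot_of_coprime ((Nat.Prime.coprime_iff_not_dvd Nat.prime_three).2 hnd)
      fun c _ k hk => hAn.conj_mem k hk c)
  let V : Subgroup G :=
    { carrier := {x | x ∈ A ∧ x ^ 3 = 1}
      one_mem' := ⟨A.one_mem, one_pow 3⟩
      mul_mem' := fun {a b} ha hb => ⟨A.mul_mem ha.1 hb.1, by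
        rw [(show Commute a b from hAab a ha.1 b hb.1).mul_pow, ha.2, hb.2, one_mul]⟩
      inv_mem' := fun {a} ha => ⟨A.inv_mem ha.1, by rw [inv_pow, ha.2, inv_one]⟩ }
  have hV3 : ∀ x ∈ V, x ^ 3 = 1 := fun x hx => hx.2
  have hVn : V.Normal := ⟨fun x hx g => ⟨hAn.conj_mem x hx.1 g, by rw [conj_pow, hx.2]; simp⟩⟩
  have hVp : IsPGroup 3 V := isPGroup_of_pow hV3
  have hVC : V ≤ C :=
    le_sup_right.trans (S.le_C_of_Z_le hN (IsPGroup.to_sup_of_normal_right S.Zp hVp) le_sup_left)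
  have hVQ : V ≤ Q := S.Qmax V hVC (fun c _ x hx => hVn.conj_mem x hx c) hVp
  obtain ⟨x, hx⟩ := exists_prime_orderOf_dvd_card' 3 h3A
  have hxV : (x : G) ∈ V := ⟨x.2, by rw [← hx, ← Subgroup.orderOf_coe, pow_orderOf_eq_one]⟩
  have hx1 : (x : G) ≠ 1 := by
    intro h
    have h2 : x = 1 := Subtype.ext h
    rw [h2, orderOf_one] at hx
    norm_num at hx
  obtain ⟨z, hzV, hzZ, hz1⟩ : ∃ z ∈ V, z ∈ Z ∧ z ≠ 1 := by
    by_cases hxZ : (x : G) ∈ Z
    · exact ⟨x, hxV, hxZ, hx1⟩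
    · obtain ⟨w, -, hw1, hwZ⟩ := S.Qcomm x (hVQ hxV) hxZ
      refine ⟨_, ?_, hwZ, hw1⟩
      have h1 : (x : G) * w * (x : G)⁻¹ * w⁻¹ = (x : G) * (w * (x : G)⁻¹ * w⁻¹) := by group
      rw [h1]
      exact V.mul_mem hxV (hVn.conj_mem _ (V.inv_mem hxV) w)
  exact S.mem_H_of_conj hN hzZ hz1 (hVC (hVn.conj_mem z hzV g))

/-- `C` is normal and `G = C N_G(M)` -/
theorem conclusion [Finite G] (S : Setup C Z Q P M D t) (hSC : SCThm.{u} 3)
    (hN : normalizer (M : Set G) ≤ normalizer (P : Set G)) :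
    (∀ g c, c ∈ C → g * c * g⁻¹ ∈ C) ∧ ∀ g : G, ∃ c ∈ C, ∃ k ∈ normalizer (M : Set G), g = c * k := by
  have h1 : ∀ g c : G, c ∈ C → g * c * g⁻¹ ∈ C := fun g c hc => (S.mem_H_iff.1 (S.main hSC hN g) c).1 hc
  refine ⟨h1, fun g => ?_⟩
  have h2 : M.map (MulAut.conj g).toMonoidHom ≤ C := by
    rintro _ ⟨x, hx, rfl⟩
    exact h1 g x (S.MC hx)
  obtain ⟨c, hc, h3⟩ := S.conjPC h2 (S.Mp.map _)
  refine ⟨c⁻¹, C.inv_mem hc, c * g, S.norm_M fun x hx => ?_, by group⟩
  have h4 : c * g * x * (c * g)⁻¹ = c * (g * x * g⁻¹) * c⁻¹ := by group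
  rw [h4]
  exact h3 _ (conj_mem_map hx)

end Setup

end Cfsg.Agent.H334.Symp
end

-- part: H334/Symp/Final
section
/-!
# S3302 from S5325 for the prime 3
-/

set_option autoImplicit false

universe u v

open Subgroup

open scoped Pointwise

namespace Cfsg.Agent.H334.Symp

/-- the coordinates of the centralizer -/
theorem exists_setup {G : Type u} [Group G] [Finite G] {F : Type v} [Field F] [Fintype F] (m : ℕ)
    (hm1 : 1 < m) (hF : Fintype.card F = 3 ^ m) (U : Sylow 3 (Cfsg.PSp 2 F)) (x : Cfsg.PSp 2 F)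
    (hx : orderOf x = 3) (hxU : x ∈ (U : Subgroup (Cfsg.PSp 2 F)))
    (hxc : ∀ u ∈ (U : Subgroup (Cfsg.PSp 2 F)), u * x = x * u) (α : G)
    (e : ↥(Subgroup.centralizer ({α} : Set G)) ≃* ↥(Subgroup.centralizer ({x} : Set (Cfsg.PSp 2 F))))
    (hb : ∀ z : G, z ≠ 1 → z ∈ Subgroup.centralizer ({α} : Set G) →
      (∀ c ∈ Subgroup.centralizer ({α} : Set G), c * z = z * c) →
      Subgroup.centralizer ({z} : Set G) = Subgroup.centralizer ({α} : Set G)) :
    ∃ f : El F →* G, Function.Injective f ∧ f.range = Subgroup.centralizer ({α} : Set G) ∧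
      Setup f.range ((El.Zs F).map f) ((El.Qs F).map f) ((El.Ps F).map f) ((El.Ms F).map f) ((El.Ds F).map f)
        (f (El.ts F)) := by
  have h3p : Fact (Nat.Prime 3) := ⟨Nat.prime_three⟩
  have hFn : Nat.card F = 3 ^ m := by rw [Nat.card_eq_fintype_card]; exact hF
  have h3 : (3 : F) = 0 := by
    have h1 : ((Fintype.card F : ℕ) : F) = 0 := Nat.cast_card_eq_zero F
    rw [hF] at h1
    have h2 : (3 : F) ^ m = 0 := by exact_mod_cast h1
    exact pow_eq_zero_iff (by omega) |>.1 h2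
  have h2F : (2 : F) ≠ 0 := by
    intro h
    have : (1 : F) = 0 := by linear_combination h3 - h
    exact one_ne_zero this
  obtain ⟨i⟩ := nonempty_iso_El (by norm_num) (by omega) hFn (by exact_mod_cast h3) h2F x hx U hxU hxc
  let j : El F ≃* ↥(Subgroup.centralizer ({α} : Set G)) := i.trans e.symm
  let f : El F →* G := (Subgroup.centralizer ({α} : Set G)).subtype.comp j.toMonoidHom
  have hf : Function.Injective f := by
    intro a b h
    exact j.injective (Subtype.ext h)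
  have hr : f.range = Subgroup.centralizer ({α} : Set G) := by
    ext g
    constructor
    · rintro ⟨a, rfl⟩
      exact (j a).2
    · intro hg
      exact ⟨j.symm ⟨g, hg⟩, by show ((j (j.symm ⟨g, hg⟩) : ↥(Subgroup.centralizer ({α} : Set G))) : G) = g; simp⟩
  refine ⟨f, hf, hr, (El.setup hFn hm1 h2F h3).map f hf fun z hz hz1 g hg => ?_⟩
  rw [hr, ← hb (f z) (fun h => hz1 (hf (by rw [h, map_one]))) (by rw [← hr]; exact ⟨z, rfl⟩) ?_]
  · rw [mem_centralizer_singleton_iff]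
    exact hg
  · rw [← hr]
    rintro _ ⟨c, rfl⟩
    rw [← map_mul, El.comm_of_Zs hz, map_mul]

theorem final {G : Type u} [Group G] [Finite G] (hSC : SCThm.{u} 3) {F : Type v} [Field F] [Fintype F] (m : ℕ)
    (hm1 : 1 < m) (hF : Fintype.card F = 3 ^ m) (U : Sylow 3 (Cfsg.PSp 2 F)) (x : Cfsg.PSp 2 F)
    (hx : orderOf x = 3) (hxU : x ∈ (U : Subgroup (Cfsg.PSp 2 F)))
    (hxc : ∀ u ∈ (U : Subgroup (Cfsg.PSp 2 F)), u * x = x * u) (α : G)
    (e : ↥(Subgroup.centralizer ({α} : Set G)) ≃* ↥(Subgroup.centralizer ({x} : Set (Cfsg.PSp 2 F))))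
    (hb : ∀ z : G, z ≠ 1 → z ∈ Subgroup.centralizer ({α} : Set G) →
      (∀ c ∈ Subgroup.centralizer ({α} : Set G), c * z = z * c) →
      Subgroup.centralizer ({z} : Set G) = Subgroup.centralizer ({α} : Set G))
    (P : Sylow 3 G) (M : Subgroup G) (hMP : M ≤ (P : Subgroup G)) (hMel : Cfsg.IsElementaryAbelian 3 M)
    (hMcard : Nat.card M = 3 ^ (3 * m))
    (hB : Subgroup.normalizer (M : Set G) ≤ Subgroup.normalizer ((P : Subgroup G) : Set G)) :
    (∀ g : G, ∃ c k : G, c ∈ Subgroup.centralizer {z : G | z ∈ Subgroup.centralizer ({α} : Set G) ∧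
        ∀ c' ∈ Subgroup.centralizer ({α} : Set G), c' * z = z * c'} ∧
      k ∈ Subgroup.normalizer (M : Set G) ∧ g = c * k) ∧ (Subgroup.centralizer ({α} : Set G)).Normal := by
  have h3p : Fact (Nat.Prime 3) := ⟨Nat.prime_three⟩
  obtain ⟨f, hf, hr, S⟩ := exists_setup m hm1 hF U x hx hxU hxc α e hb
  obtain ⟨T, hT⟩ := S.exists_sylow
  obtain ⟨g, hg⟩ := MulAction.exists_smul_eq G P T
  -- `g P g⁻¹ = P₀`
  have hPT : ∀ y : G, y ∈ (P : Subgroup G) ↔ g * y * g⁻¹ ∈ (El.Ps F).map f := by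
    intro y
    rw [← hT, ← hg]
    constructor
    · intro h
      exact Subgroup.smul_mem_pointwise_smul _ (MulAut.conj g) (P : Subgroup G) h
    · intro h
      have h1 : g * y * g⁻¹ ∈ MulAut.conj g • (P : Subgroup G) := h
      rw [Subgroup.mem_pointwise_smul_iff_inv_smul_mem] at h1
      have h2 : (MulAut.conj g)⁻¹ • (g * y * g⁻¹) = y := by
        rw [← map_inv, MulAut.smul_def, MulAut.conj_apply]
        group
      rwa [h2] at h1
  have hMg : M.map (MulAut.conj g).toMonoidHom = (El.Ms F).map f := by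
    refine S.Muniq _ ?_ ?_ ?_ ?_
    · rintro _ ⟨y, hy, rfl⟩
      exact (hPT y).1 (hMP hy)
    · rintro _ ⟨y, hy, rfl⟩ _ ⟨z, hz, rfl⟩
      have h1 : y * z = z * y := congrArg Subtype.val (hMel.1.is_comm.comm (⟨y, hy⟩ : M) ⟨z, hz⟩)
      rw [← map_mul, h1, map_mul]
    · rintro _ ⟨y, hy, rfl⟩
      rw [← map_pow, hMel.2 y hy, map_one]
    · rw [card_map_conj, hMcard, Nat.card_congr ((El.Ms F).equivMapOfInjective f hf).symm.toEquiv, El.card_Ms,
        Nat.card_eq_fintype_card, hF, ← pow_mul]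
      ring_nf
  have hM : ∀ y : G, y ∈ M ↔ g * y * g⁻¹ ∈ (El.Ms F).map f := by
    intro y
    rw [← hMg, mem_map_conj]
    have : g⁻¹ * (g * y * g⁻¹) * g = y := by group
    rw [this]
  -- normalizers
  have hNM : ∀ k : G, k ∈ normalizer (((El.Ms F).map f : Subgroup G) : Set G) ↔
      g⁻¹ * k * g ∈ normalizer (M : Set G) := by
    intro k
    rw [mem_normalizer_iff, mem_normalizer_iff]
    constructor
    · intro h y
      rw [hM y, h, hM]
      have : k * (g * y * g⁻¹) * k⁻¹ = g * (g⁻¹ * k * g * y * (g⁻¹ * k * g)⁻¹) * g⁻¹ := by group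
      rw [this]
    · intro h y
      have h1 := h (g⁻¹ * y * g)
      rw [hM, hM] at h1
      have e1 : g * (g⁻¹ * y * g) * g⁻¹ = y := by group
      have e2 : g * (g⁻¹ * k * g * (g⁻¹ * y * g) * (g⁻¹ * k * g)⁻¹) * g⁻¹ = k * y * k⁻¹ := by group
      rwa [e1, e2] at h1
  have hN : normalizer (((El.Ms F).map f : Subgroup G) : Set G) ≤
      normalizer (((El.Ps F).map f : Subgroup G) : Set G) := by
    intro k hk
    have h1 := hB ((hNM k).1 hk)
    rw [mem_normalizer_iff] at h1 ⊢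
    intro y
    have h2 := h1 (g⁻¹ * y * g)
    rw [hPT, hPT] at h2
    have e1 : g * (g⁻¹ * y * g) * g⁻¹ = y := by group
    have e2 : g * (g⁻¹ * k * g * (g⁻¹ * y * g) * (g⁻¹ * k * g)⁻¹) * g⁻¹ = k * y * k⁻¹ := by group
    rwa [e1, e2] at h2
  obtain ⟨hC, hF'⟩ := S.conclusion hSC hN
  rw [hr] at hC hF'
  refine ⟨fun y => ?_, ⟨fun c hc y => hC y c hc⟩⟩
  obtain ⟨c, hc, k, hk, hck⟩ := hF' (g * y * g⁻¹)
  refine ⟨g⁻¹ * c * g, g⁻¹ * k * g, ?_, (hNM k).1 hk, ?_⟩
  · have h1 : g⁻¹ * c * g ∈ Subgroup.centralizer ({α} : Set G) := by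
      have := hC g⁻¹ c hc
      rwa [inv_inv] at this
    rw [mem_centralizer_iff]
    rintro z ⟨-, hz⟩
    exact (hz _ h1).symm
  · calc y = g⁻¹ * (g * y * g⁻¹) * g := by group
      _ = g⁻¹ * (c * k) * g := by rw [hck]
      _ = g⁻¹ * c * g * (g⁻¹ * k * g) := by group

end Cfsg.Agent.H334.Symp
end
end

-- part: H334/Sp4/Cent2_mg
section
set_option linter.all false
open scoped Cfsg.Agent.FastGrp

-- part: H334/Sp4/Swap
section
/-!
# The swap in `N_G(M)`

From helper339's analysis of `N_G(M)`: if `N_G(M)` does not normalise `P` then some element of `N_G(M)` interchanges the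
root groups `Z = d(F)` and `X = b(F)`, and these are the only conjugates of `Z` in `N_G(M)` which are contained in `Z X`.
-/

set_option autoImplicit false
set_option linter.unusedSectionVars false
set_option linter.unusedVariables false
open Subgroup

namespace Cfsg.Agent.H334.Sp4

open Cfsg.Agent.H339

/-- the elements of order `p` central in a Sylow subgroup are conjugate into `Z` -/
theorem exists_conj_d {G F : Type*} [Group G] [Finite G] [Field F] {p : ℕ} [Fact p.Prime]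
    (h2 : (2 : F) ≠ 0) (K : Co G F) (P : Sylow p G) (hP : K.P = P) (u : G) (Q : Sylow p G) (hu : orderOf u = p)
    (huQ : u ∈ (Q : Subgroup G)) (huc : ∀ y ∈ (Q : Subgroup G), y * u = u * y) :
    ∃ g : G, ∃ w, w ≠ 0 ∧ g * u * g⁻¹ = K.d w := by
  have hp : p.Prime := Fact.out
  obtain ⟨g, hg⟩ := MulAction.exists_smul_eq G Q P
  have hg' : ∀ y, y ∈ (P : Subgroup G) → g⁻¹ * y * g ∈ (Q : Subgroup G) := by
    intro y hy
    rw [← hg] at hy
    have hy' : y ∈ cj g (Q : Subgroup G) := hy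
    rwa [mem_cj] at hy'
  have h1 : g * u * g⁻¹ ∈ K.P := by
    rw [hP, ← hg]
    change _ ∈ cj g (Q : Subgroup G)
    exact conj_mem_cj huQ
  have h3 : g * u * g⁻¹ ∈ K.Z := by
    apply K.mem_Z_of_comm_P h2 h1
    intro y hy
    rw [hP] at hy
    have h4 := huc _ (hg' y hy)
    calc y * (g * u * g⁻¹) = g * (g⁻¹ * y * g * u) * g⁻¹ := by group
      _ = g * (u * (g⁻¹ * y * g)) * g⁻¹ := by rw [h4]
      _ = _ := by group
  obtain ⟨w, hw⟩ := h3
  refine ⟨g, w, ?_, hw⟩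
  rintro rfl
  rw [K.d_zero] at hw
  have : u = 1 := by
    have e : u = g⁻¹ * (g * u * g⁻¹) * g := by group
    rw [e, hw]; group
  rw [this, orderOf_one] at hu
  exact hp.one_lt.ne hu

/-- The swap, and the points in `Z X`. -/
theorem exists_swap {G F : Type*} [Group G] [Finite G] [Field F] [Fintype F] {p n : ℕ}
    [Fact p.Prime] (hp2 : p ≠ 2) (hn : 1 ≤ n) (h4 : p ^ n % 4 = 3) (h5 : 3 < p ^ n) (hF : Fintype.card F = p ^ n)
    (h2 : (2 : F) ≠ 0) (K : Co G F)
    (cent : ∀ v, v ≠ 0 → ∀ g, (∀ y ∈ K.M, g * y * g⁻¹ ∈ K.M) → g * K.d v = K.d v * g →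
      ∃ t u v' s r, g = K.m t u v' * K.a s * K.h r)
    (hc : ∃ (u v : G) (Pu Pv : Sylow p G), orderOf u = p ∧ orderOf v = p ∧
      u ∈ (Pu : Subgroup G) ∧ (∀ y ∈ (Pu : Subgroup G), y * u = u * y) ∧
      v ∈ (Pv : Subgroup G) ∧ (∀ y ∈ (Pv : Subgroup G), y * v = v * y) ∧ ∀ g : G, g * u * g⁻¹ ≠ v)
    (P : Sylow p G) (hP : K.P = P)
    (hnp : ¬ normalizer (K.M : Set G) ≤ normalizer (K.P : Set G)) :
    (∃ n ∈ normalizer (K.M : Set G), cj n K.Z = K.X ∧ cj n K.X = K.Z) ∧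
      ∀ g ∈ normalizer (K.M : Set G), cj g K.Z ≤ K.D → cj g K.Z = K.Z ∨ cj g K.Z = K.X := by
  classical
  have hp : p.Prime := Fact.out
  set N := Subgroup.normalizer (K.M : Set G) with hN
  have hPN : ∀ x ∈ K.P, x ∈ N := fun x hx => mem_nrm (K.M_normal_P x hx)
  have ha : ∀ s, K.a s ∈ N := fun s => hPN _ (K.A_le_P ⟨s, rfl⟩)
  have hb : ∀ s, K.b s ∈ N := fun s => hPN _ (K.M_le_P ⟨s, 0, 0, K.b_eq s⟩)
  have hc' : ∀ s, K.c s ∈ N := fun s => hPN _ (K.M_le_P ⟨0, s, 0, K.c_eq s⟩)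
  have hd : ∀ s, K.d s ∈ N := fun s => hPN _ (K.M_le_P ⟨0, 0, s, K.d_eq s⟩)
  have hh : ∀ r, K.h r ∈ N := by
    intro r
    apply mem_nrm
    rintro _ ⟨t, u, v, rfl⟩
    rw [K.h_m, mul_inv_cancel_right]
    exact K.m_mem _ _ _
  let L : Co N F := K.res N ha hb hc' hd hh
  have hNM : ∀ g : N, ∀ y ∈ K.M, (g : G) * y * (g : G)⁻¹ ∈ K.M := by
    intro g y hy
    exact (Subgroup.mem_normalizer_iff.mp g.2 y).mp hy
  have hcentL : ∀ v, v ≠ 0 → ∀ g : N, g * L.d v = L.d v * g →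
      ∃ t u v' s r, g = L.m t u v' * L.a s * L.h r := by
    intro v hv g hg
    obtain ⟨t, u, v', s, r, e⟩ := cent v hv g (hNM g) (congrArg Subtype.val hg)
    exact ⟨t, u, v', s, r, Subtype.ext e⟩
  have hnrm : ∀ g : N, ∀ x ∈ L.M, g * x * g⁻¹ ∈ L.M := by
    intro g x hx
    rw [Co.mem_res_M] at hx ⊢
    exact hNM g _ hx
  have H : L.Hyp := by
    refine ⟨hcentL, hnrm, ?_, h2, ?_⟩
    · by_contra hcon
      push Not at hcon
      obtain ⟨u, v, Pu, Pv, hu, hv, huP, huc, hvP, hvc, huv⟩ := hc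
      obtain ⟨g1, w1, hw1, e1⟩ := exists_conj_d h2 K P hP u Pu hu huP huc
      obtain ⟨g2, w2, hw2, e2⟩ := exists_conj_d h2 K P hP v Pv hv hvP hvc
      obtain ⟨k1, hk1⟩ := hcon w1 hw1
      obtain ⟨k2, hk2⟩ := hcon w2 hw2
      have f1 : (k1 : G) * K.d 1 * (k1 : G)⁻¹ = K.d w1 := congrArg Subtype.val hk1
      have f2 : (k2 : G) * K.d 1 * (k2 : G)⁻¹ = K.d w2 := congrArg Subtype.val hk2
      apply huv (g2⁻¹ * k2 * (k1 : G)⁻¹ * g1)
      have e3 : g2⁻¹ * k2 * (k1 : G)⁻¹ * g1 * u * (g2⁻¹ * k2 * (k1 : G)⁻¹ * g1)⁻¹ =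
          g2⁻¹ * (k2 * ((k1 : G)⁻¹ * (g1 * u * g1⁻¹) * k1) * (k2 : G)⁻¹) * g2 := by group
      have e4 : (k1 : G)⁻¹ * (g1 * u * g1⁻¹) * k1 = K.d 1 := by
        rw [e1, ← f1]; group
      rw [e3, e4, f2, ← e2]
      group
    · by_contra hcon
      push Not at hcon
      apply hnp
      intro g hg
      apply mem_nrm
      rintro _ ⟨t, u, v, s, rfl⟩
      obtain ⟨t', u', v', s', e⟩ := L.conj_a' hcentL (hcon ⟨g, hg⟩) s
      have e' : g * K.a s * g⁻¹ = K.m t' u' v' * K.a s' := congrArg Subtype.val e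
      have e1 : g * (K.m t u v * K.a s) * g⁻¹ = (g * K.m t u v * g⁻¹) * (g * K.a s * g⁻¹) := by
        group
      rw [e1, e']
      exact K.P.mul_mem (K.M_le_P (hNM ⟨g, hg⟩ _ (K.m_mem _ _ _))) ⟨_, _, _, _, rfl⟩
  have hF' : Nat.card F = p ^ n := by rw [Nat.card_eq_fintype_card, hF]
  have hm1 : ¬ IsSquare (-1 : F) := by
    rw [FiniteField.isSquare_neg_one_iff, hF]
    exact fun h => h h4
  have hE := H.card_E hp hp2 hn hF' h4 hm1
  obtain ⟨S₁, hS₁⟩ := H.E_nonempty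
  have huniq : ∀ S ∈ L.E, S = S₁ := by
    intro S hS
    rw [Nat.card_eq_one_iff_unique] at hE
    have := hE.1.elim (⟨S, hS⟩ : L.E) ⟨S₁, hS₁⟩
    exact congrArg Subtype.val this
  have hS₁X : S₁ = L.X := by
    by_contra hne
    have h6 : ∀ r : Fˣ, (r : F) * r = 1 := fun r =>
      H.sq_eq_one_of_fix hS₁ hne (huniq _ (H.E_cj_h hS₁ r))
    have h7 : Nat.card Fˣ ≤ 2 := by
      have h8 : ∀ r : Fˣ, r = 1 ∨ r = -1 := by
        intro r
        have h9 : ((r : F) - 1) * (r + 1) = 0 := by linear_combination h6 r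
        rcases mul_eq_zero.1 h9 with h | h
        · left; apply Units.ext; rw [Units.val_one]; linear_combination h
        · right; apply Units.ext; rw [Units.val_neg, Units.val_one]; linear_combination h
      let f : Fˣ → Bool := fun r => decide (r = 1)
      have hf : Function.Injective f := by
        intro a b hab
        simp only [f, decide_eq_decide] at hab
        rcases h8 a with h | h <;> rcases h8 b with h' | h'
        · rw [h, h']
        · rw [h, (hab.1 h)]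
        · rw [h', (hab.2 h')]
        · rw [h, h']
      have := Nat.card_le_card_of_injective f hf
      simpa only [_root_.Nat.card_eq_fintype_card, _root_.ge_iff_le, _root_.Fintype.card_bool] using this
    rw [Nat.card_units, hF'] at h7
    omega
  subst hS₁X
  have H2 : L.Hyp2 := { toHyp := H, E_eq := huniq, X_mem := hS₁, m1 := hm1 }
  -- transport to `G`
  have hcjZ : ∀ g : N, (cj g L.Z).map N.subtype = cj (g : G) K.Z := by
    intro g
    ext x
    constructor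
    · rintro ⟨y, hy, rfl⟩
      rw [SetLike.mem_coe, mem_cj] at hy
      rw [mem_cj]
      exact Co.mem_res_Z.1 hy
    · intro hx
      rw [mem_cj] at hx
      obtain ⟨v, hv⟩ := hx
      have hx : x = (g : G) * K.d v * (g : G)⁻¹ := by rw [← hv]; group
      refine ⟨g * L.d v * g⁻¹, conj_mem_cj ⟨v, rfl⟩, ?_⟩
      rw [hx]; rfl
  have hZ' : L.Z.map N.subtype = K.Z := by
    ext x
    constructor
    · rintro ⟨y, hy, rfl⟩
      exact Co.mem_res_Z.1 hy
    · rintro ⟨v, rfl⟩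
      exact ⟨L.d v, ⟨v, rfl⟩, rfl⟩
  have hX' : L.X.map N.subtype = K.X := by
    ext x
    constructor
    · rintro ⟨y, ⟨t, rfl⟩, rfl⟩
      exact ⟨t, rfl⟩
    · rintro ⟨v, rfl⟩
      exact ⟨L.b v, ⟨v, rfl⟩, rfl⟩
  have hcjX : ∀ g : N, (cj g L.X).map N.subtype = cj (g : G) K.X := by
    intro g
    ext x
    constructor
    · rintro ⟨y, hy, rfl⟩
      rw [SetLike.mem_coe, mem_cj] at hy
      obtain ⟨t, ht⟩ := hy
      rw [mem_cj]
      exact ⟨t, congrArg Subtype.val ht⟩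
    · intro hx
      rw [mem_cj] at hx
      obtain ⟨v, hv⟩ := hx
      have hx : x = (g : G) * K.b v * (g : G)⁻¹ := by rw [← hv]; group
      refine ⟨g * L.b v * g⁻¹, conj_mem_cj ⟨v, rfl⟩, ?_⟩
      rw [hx]; rfl
  obtain ⟨n, hn1, hn2⟩ := H2.exists_swap
  refine ⟨⟨n, n.2, ?_, ?_⟩, ?_⟩
  · rw [← hcjZ, hn1, hX']
  · rw [← hcjX, hn2, hZ']
  · intro g hg hgD
    by_cases hZ : cj (⟨g, hg⟩ : N) L.Z = L.Z
    · left
      rw [← hcjZ ⟨g, hg⟩, hZ, hZ']
    · right
      have h6 : cj (⟨g, hg⟩ : N) L.Z = L.X := by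
        apply huniq
        refine ⟨⟨⟨g, hg⟩, rfl⟩, hZ, ?_⟩
        intro x hx
        have h7 : (x : G) ∈ cj g K.Z := by
          rw [← hcjZ ⟨g, hg⟩]
          exact ⟨x, hx, rfl⟩
        obtain ⟨t, v, h8⟩ := hgD h7
        exact ⟨t, v, Subtype.ext h8⟩
      rw [← hcjZ ⟨g, hg⟩, h6, hX']

end Cfsg.Agent.H334.Sp4
end

-- part: H334/Sp4/Base
section
/-!
# The working hypothesis `Sw f`

`f : El F →* G` injective, its image the centralizer of the nontrivial elements of `Z = f(Zs F)`; an element `w`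
commuting with the involution `t` and interchanging `Z` and `X = f(Xs F)`.
-/

set_option autoImplicit false
set_option linter.unusedSectionVars false
set_option linter.unusedVariables false
set_option linter.unusedSimpArgs false
open Subgroup

namespace Cfsg.Agent.H334.Symp.El

open Cfsg.Agent.H339 Matrix

variable {F : Type*} [Field F]

/-- the root group of `SL(2,F)` -/
def Xs (F : Type*) [Field F] : Subgroup (El F) where
  carrier := {g | g.z = 0 ∧ g.x = 0 ∧ g.y = 0 ∧ ∃ r, g.A = up r}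
  one_mem' := ⟨rfl, rfl, rfl, 0, up_zero.symm⟩
  mul_mem' := by
    rintro a b ⟨h1, h2, h3, r, hr⟩ ⟨h4, h5, h6, s, hs⟩
    refine ⟨?_, ?_, ?_, r + s, by rw [mul_A, hr, hs, up_add]⟩
    · simp [h1, h2, h3, h4, h5, h6]
    · simp [h1, h2, h3, h4, h5, h6]
    · simp [h1, h2, h3, h4, h5, h6]
  inv_mem' := by
    rintro a ⟨h1, h2, h3, r, hr⟩
    refine ⟨?_, ?_, ?_, -r, by rw [inv_A, hr, up_neg]⟩
    · simp [h1, h2, h3]
    · simp [h1, h2, h3]
    · simp [h1, h2, h3]

/-- `A = Z X` -/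
def As (F : Type*) [Field F] : Subgroup (El F) where
  carrier := {g | g.x = 0 ∧ g.y = 0 ∧ ∃ r, g.A = up r}
  one_mem' := ⟨rfl, rfl, 0, up_zero.symm⟩
  mul_mem' := by
    rintro a b ⟨h2, h3, r, hr⟩ ⟨h5, h6, s, hs⟩
    refine ⟨?_, ?_, r + s, by rw [mul_A, hr, hs, up_add]⟩
    · simp [h2, h3, h5, h6]
    · simp [h2, h3, h5, h6]
  inv_mem' := by
    rintro a ⟨h2, h3, r, hr⟩
    refine ⟨?_, ?_, -r, by rw [inv_A, hr, up_neg]⟩
    · simp [h2, h3]
    · simp [h2, h3]

theorem mem_Xs' {g : El F} : g ∈ Xs F ↔ ∃ s, g = emb F (up s) := by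
  constructor
  · rintro ⟨h1, h2, h3, r, hr⟩
    exact ⟨r, by ext1 <;> simp [h1, h2, h3, hr]⟩
  · rintro ⟨s, rfl⟩
    exact ⟨rfl, rfl, rfl, s, rfl⟩

theorem mem_Zs' {g : El F} : g ∈ Zs F ↔ ∃ v, g = q v 0 0 := by
  constructor
  · intro h
    obtain ⟨h2, h3, h4⟩ := h
    exact ⟨g.z, by rw [eq_q (mem_Qs.2 h4), h2, h3]; rfl⟩
  · rintro ⟨v, rfl⟩
    exact ⟨rfl, rfl, rfl⟩

theorem Zs_le_As : Zs F ≤ As F := fun g h => ⟨h.1, h.2.1, 0, by rw [up_zero]; exact h.2.2⟩

theorem Xs_le_As : Xs F ≤ As F := fun g h => ⟨h.2.1, h.2.2.1, h.2.2.2⟩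

theorem mem_As' {g : El F} : g ∈ As F ↔ ∃ v s, g = q v 0 0 * emb F (up s) := by
  constructor
  · rintro ⟨h2, h3, r, hr⟩
    refine ⟨g.z, r, ?_⟩
    ext1
    · simp only [q, _root_.Cfsg.Agent.H334.Symp.El.mul_z, _root_.Cfsg.Agent.H334.Symp.El.emb_z, _root_.add_zero, _root_.Fin.isValue, _root_.Matrix.SpecialLinearGroup.coe_one, _root_.ne_eq, _root_.one_ne_zero, _root_.not_false_eq_true, _root_.Matrix.one_apply_ne, _root_.Cfsg.Agent.H334.Symp.El.emb_x, _root_.MulZeroClass.mul_zero, _root_.Matrix.one_apply_eq, _root_.Cfsg.Agent.H334.Symp.El.emb_y, _root_.zero_ne_one, _root_.sub_self]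
    · simp [q, h2]
    · simp [q, h3]
    · simp [q, hr]
  · rintro ⟨v, s, rfl⟩
    exact (As F).mul_mem (Zs_le_As (mem_Zs'.2 ⟨v, rfl⟩)) (Xs_le_As (mem_Xs'.2 ⟨s, rfl⟩))

/-- the diagonal matrices -/
def dg (r : Fˣ) : Matrix.SpecialLinearGroup (Fin 2) F := ⟨!![(r : F), 0; 0, (↑r⁻¹ : F)], by simp⟩

theorem dg00 (r : Fˣ) : (dg r).1 0 0 = (r : F) := rfl
theorem dg01 (r : Fˣ) : (dg r).1 0 1 = 0 := rfl
theorem dg10 (r : Fˣ) : (dg r).1 1 0 = 0 := rfl
theorem dg11 (r : Fˣ) : (dg r).1 1 1 = (↑r⁻¹ : F) := rfl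

theorem toEl_m (t u v : F) : toEl F ((SpCo.co F).m t u v) = ⟨v, u, 0, up t⟩ := by
  have e : ((SpCo.co F).m t u v : SpCo.Sp F) = SpCo.m t u v := SpCo.co_m t u v
  have e1 : ((SpCo.co F).m t u v : SpCo.Sp F).1 = fromBlocks 1 (SpCo.sy t u v) 0 1 := by rw [e]; rfl
  ext1
  · rw [toEl_z, e1, fromBlocks_apply₁₂]; rfl
  · rw [toEl_x, e1, fromBlocks_apply₁₂]; rfl
  · rw [toEl_y, e1, fromBlocks_apply₂₂]; simp
  · rw [toEl_A]
    apply sl_ext
    · rw [rho00, e1, fromBlocks_apply₁₁]; simp [up00]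
    · rw [rho01, e1, fromBlocks_apply₁₂]; simp [up01, SpCo.sy]
    · rw [rho10, e1, fromBlocks_apply₂₁]; simp [up10]
    · rw [rho11, e1, fromBlocks_apply₂₂]; simp [up11]

theorem toEl_a (s : F) : toEl F ((SpCo.co F).a s) = ⟨0, 0, -s, 1⟩ := by
  have e1 : ((SpCo.co F).a s : SpCo.Sp F).1 = fromBlocks !![1, s; 0, 1] 0 0 !![1, 0; -s, 1] := rfl
  ext1
  · rw [toEl_z, e1, fromBlocks_apply₁₂]; rfl
  · rw [toEl_x, e1, fromBlocks_apply₁₂]; rfl
  · rw [toEl_y, e1, fromBlocks_apply₂₂]; simp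
  · rw [toEl_A]
    apply sl_ext
    · rw [rho00, e1, fromBlocks_apply₁₁]; simp [sl_one00]
    · rw [rho01, e1, fromBlocks_apply₁₂]; simp [sl_one01]
    · rw [rho10, e1, fromBlocks_apply₂₁]; simp [sl_one10]
    · rw [rho11, e1, fromBlocks_apply₂₂]; simp [sl_one11]

theorem toEl_h (r : Fˣ) : toEl F ((SpCo.co F).h r) = emb F (dg r) := by
  have e1 : ((SpCo.co F).h r : SpCo.Sp F).1 = fromBlocks !![1, 0; 0, (r : F)] 0 0 !![1, 0; 0, (↑r⁻¹ : F)] := rfl
  ext1
  · rw [toEl_z, e1, fromBlocks_apply₁₂]; rfl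
  · rw [toEl_x, e1, fromBlocks_apply₁₂]; rfl
  · rw [toEl_y, e1, fromBlocks_apply₂₂]; simp
  · rw [toEl_A]
    apply sl_ext
    · rw [rho00, e1, fromBlocks_apply₁₁]; simp [dg00]
    · rw [rho01, e1, fromBlocks_apply₁₂]; simp [dg01]
    · rw [rho10, e1, fromBlocks_apply₂₁]; simp [dg10]
    · rw [rho11, e1, fromBlocks_apply₂₂]; simp [dg11]

end Cfsg.Agent.H334.Symp.El

namespace Cfsg.Agent.H334.Sp4

open Cfsg.Agent.H339 Cfsg.Agent.H334.Symp Cfsg.Agent.H334.Symp.El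

/-- coordinates in `G` from `f : El F →* G` -/
noncomputable def coG {G F : Type*} [Group G] [Field F] (f : El F →* G) (hf : Function.Injective f) : Co G F :=
  (SpCo.co F).map (f.comp (toEl F)) (hf.comp toEl_injective)

section

variable {G F : Type*} [Group G] [Field F] {f : El F →* G} {hf : Function.Injective f}

theorem coG_m (t u v : F) : (coG f hf).m t u v = f ⟨v, u, 0, up t⟩ := by
  unfold coG
  rw [Co.map_m, MonoidHom.comp_apply, toEl_m]

theorem coG_a (s : F) : (coG f hf).a s = f ⟨0, 0, -s, 1⟩ := by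
  show f (toEl F ((SpCo.co F).a s)) = _
  rw [toEl_a]

theorem coG_h (r : Fˣ) : (coG f hf).h r = f (emb F (dg r)) := by
  show f (toEl F ((SpCo.co F).h r)) = _
  rw [toEl_h]

theorem coG_d (v : F) : (coG f hf).d v = f (q v 0 0) := by
  rw [Co.d_eq, coG_m, up_zero]; rfl

theorem coG_b (t : F) : (coG f hf).b t = f (emb F (up t)) := by
  rw [Co.b_eq, coG_m]; rfl

theorem coG_M : (coG f hf).M = (Ms F).map f := by
  ext x
  constructor
  · rintro ⟨t, u, v, rfl⟩
    rw [coG_m]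
    exact ⟨_, ⟨rfl, t, rfl⟩, rfl⟩
  · rintro ⟨g, ⟨hy, t, ht⟩, rfl⟩
    refine ⟨t, g.x, g.z, ?_⟩
    rw [coG_m]
    congr 1
    ext1 <;> simp [hy, ht]

theorem coG_Z : (coG f hf).Z = (Zs F).map f := by
  ext x
  constructor
  · rintro ⟨v, rfl⟩
    rw [coG_d]
    exact ⟨_, mem_Zs'.2 ⟨v, rfl⟩, rfl⟩
  · rintro ⟨g, hg, rfl⟩
    obtain ⟨v, rfl⟩ := mem_Zs'.1 hg
    exact ⟨v, by rw [coG_d]⟩

theorem coG_X : (coG f hf).X = (Xs F).map f := by
  ext x
  constructor
  · rintro ⟨v, rfl⟩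
    rw [coG_b]
    exact ⟨_, mem_Xs'.2 ⟨v, rfl⟩, rfl⟩
  · rintro ⟨g, hg, rfl⟩
    obtain ⟨v, rfl⟩ := mem_Xs'.1 hg
    exact ⟨v, by rw [coG_b]⟩

theorem coG_D : (coG f hf).D = (As F).map f := by
  ext x
  constructor
  · rintro ⟨t, v, rfl⟩
    rw [coG_m]
    exact ⟨_, ⟨rfl, rfl, t, rfl⟩, rfl⟩
  · rintro ⟨g, ⟨hx, hy, t, ht⟩, rfl⟩
    refine ⟨t, g.z, ?_⟩
    rw [coG_m]
    congr 1
    ext1 <;> simp [hx, hy, ht]

theorem coG_P : (coG f hf).P = (Ps F).map f := by
  ext x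
  constructor
  · rintro ⟨t, u, v, s, rfl⟩
    rw [coG_m, coG_a, ← map_mul]
    exact ⟨_, ⟨t, by simp⟩, rfl⟩
  · rintro ⟨g, ⟨t, ht⟩, rfl⟩
    refine ⟨t, g.x - t * g.y, g.z - g.y * (g.x - t * g.y), -g.y, ?_⟩
    rw [coG_m, coG_a, ← map_mul]
    congr 1
    ext1
    · simp [up00, up01, up10, up11]; ring
    · simp [up00, up01, up10, up11]
    · simp [up00, up01, up10, up11]
    · simp [ht]

end

end Cfsg.Agent.H334.Sp4
end

-- part: H334/Sp4/SwOf
section
/-!
# The hypothesis `Sw f` from the hypotheses of S3241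
-/

set_option autoImplicit false
set_option linter.unusedSectionVars false
set_option linter.unusedVariables false
set_option linter.unusedSimpArgs false

universe u v

open Subgroup

namespace Cfsg.Agent.H334.Sp4

open Cfsg.Agent.H339 Cfsg.Agent.H334.Symp Cfsg.Agent.H334.Symp.El

/-- The working hypothesis. -/
structure Sw {G : Type u} {F : Type v} [Group G] [Field F] (f : El F →* G) : Prop where
  inj : Function.Injective f
  cent : ∀ v : F, v ≠ 0 → ∀ g : G, g * f (q v 0 0) = f (q v 0 0) * g → ∃ k, f k = g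
  swap : ∃ w : G, w * f (ts F) = f (ts F) * w ∧ (∀ x, x ∈ (Zs F).map f ↔ w * x * w⁻¹ ∈ (Xs F).map f) ∧
    (∀ x, x ∈ (Xs F).map f ↔ w * x * w⁻¹ ∈ (Zs F).map f)
  nm : ∀ g : G, g * f (ts F) = f (ts F) * g → (∀ a ∈ (As F).map f, g * a * g⁻¹ ∈ (As F).map f) →
    (∀ x ∈ (Zs F).map f, g * x * g⁻¹ ∈ (Zs F).map f) ∨ (∀ x ∈ (Zs F).map f, g * x * g⁻¹ ∈ (Xs F).map f)
  inv : ∀ v : F, v ≠ 0 → ∀ g : G, g * f (q v 0 0) * g⁻¹ ≠ f (q (-v) 0 0)

section

variable {G : Type u} {F : Type v} [Group G] [Field F] {f : El F →* G}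

theorem centA (inj : Function.Injective f)
    (cent : ∀ v : F, v ≠ 0 → ∀ g : G, g * f (q v 0 0) = f (q v 0 0) * g → ∃ k, f k = g) {g : G}
    (hg : ∀ a ∈ (As F).map f, g * a = a * g) :
    ∃ k, f k = g ∧ k.y = 0 ∧ k.A.1 1 0 = 0 ∧ k.A.1 0 0 = k.A.1 1 1 := by
  obtain ⟨k, rfl⟩ := cent 1 one_ne_zero g (hg _ ⟨_, Zs_le_As (mem_Zs'.2 ⟨1, rfl⟩), rfl⟩)
  have h1 := hg _ ⟨_, Xs_le_As (mem_Xs'.2 ⟨1, rfl⟩), rfl⟩
  rw [← map_mul, ← map_mul] at h1
  have h2 := inj h1
  have hx := congrArg El.x h2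
  have hA := congrArg El.A h2
  simp only [mul_x, emb_x, emb_y, emb_A, up00, up01] at hx
  rw [mul_A, mul_A, emb_A] at hA
  have h00 := congrArg (fun B : Matrix.SpecialLinearGroup (Fin 2) F => B.1 0 0) hA
  have h01 := congrArg (fun B : Matrix.SpecialLinearGroup (Fin 2) F => B.1 0 1) hA
  simp only [sl_mul, up00, up01, up10, up11] at h00 h01
  refine ⟨k, rfl, ?_, ?_, ?_⟩
  · linear_combination -hx
  · linear_combination -h00
  · linear_combination h01

/-- elements commuting with `t` and normalising `A` normalise `M` -/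
theorem norm_M (h2F : (2 : F) ≠ 0) (h3 : (3 : F) = 0) (inj : Function.Injective f)
    (cent : ∀ v : F, v ≠ 0 → ∀ g : G, g * f (q v 0 0) = f (q v 0 0) * g → ∃ k, f k = g) {g : G}
    (hgA : ∀ a ∈ (As F).map f, ∃ b ∈ (As F).map f, a = g * b * g⁻¹)
    (hgA' : ∀ a ∈ (As F).map f, g * a * g⁻¹ ∈ (As F).map f) :
    ∀ x ∈ (Ms F).map f, g * x * g⁻¹ ∈ (Ms F).map f := by
  -- `M = A V`
  have hV : ∀ u : F, g * f (q 0 u 0) * g⁻¹ ∈ (Ms F).map f := by
    intro u
    have hqM : q 0 u 0 ∈ Ms F := ⟨rfl, 0, by rw [up_zero]; rfl⟩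
    have h1 : ∀ a ∈ (As F).map f, (g * f (q 0 u 0) * g⁻¹) * a = a * (g * f (q 0 u 0) * g⁻¹) := by
      intro a ha
      obtain ⟨b, hb, rfl⟩ := hgA a ha
      obtain ⟨b, hb, rfl⟩ := hb
      have h2 : q 0 u 0 * b = b * q 0 u 0 := Ms_comm hqM ⟨hb.2.1, hb.2.2⟩
      have h3 : f (q 0 u 0) * f b = f b * f (q 0 u 0) := by rw [← map_mul, h2, map_mul]
      calc g * f (q 0 u 0) * g⁻¹ * (g * f b * g⁻¹) = g * (f (q 0 u 0) * f b) * g⁻¹ := by group
        _ = g * (f b * f (q 0 u 0)) * g⁻¹ := by rw [h3]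
        _ = g * f b * g⁻¹ * (g * f (q 0 u 0) * g⁻¹) := by group
    obtain ⟨k, hk, hy, h10, h00⟩ := centA inj cent h1
    have h2 : k ^ 3 = 1 := by
      apply inj
      rw [map_pow, hk, conj_pow, ← map_pow, Ms_pow h3 hqM]
      simp
    -- `k.A = up s`
    have hdet := det_eq k.A
    have hA3 : (k.A.1 0 0) ^ 3 = 1 := by
      have h4 : k.A ^ 3 = 1 := by
        have := congrArg (mat F) h2
        rw [map_pow, map_one] at this
        exact this
      have h5 := congrArg (fun B : Matrix.SpecialLinearGroup (Fin 2) F => B.1 0 0) h4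
      have h6 : k.A ^ 3 = k.A * k.A * k.A := by rw [pow_succ, pow_two]
      simp only [h6, sl_mul, sl_one00, h10] at h5
      linear_combination h5
    have hA2 : (k.A.1 0 0) ^ 2 = 1 := by
      rw [h10, ← h00] at hdet
      linear_combination hdet
    have hA1 : k.A.1 0 0 = 1 := by linear_combination hA3 - k.A.1 0 0 * hA2
    refine ⟨k, ⟨hy, k.A.1 0 1, ?_⟩, hk⟩
    apply sl_ext
    · rw [up00, hA1]
    · rw [up01]
    · rw [up10, h10]
    · rw [up11, ← h00, hA1]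
  rintro _ ⟨k, ⟨hy, r, hr⟩, rfl⟩
  have h1 : k = (q k.z 0 0 * emb F (up r)) * q 0 k.x 0 := by
    ext1
    · simp only [q, up00, up01, up10, up11, _root_.Cfsg.Agent.H334.Symp.El.mul_z, _root_.Cfsg.Agent.H334.Symp.El.emb_z, _root_.add_zero, _root_.Fin.isValue, _root_.Matrix.SpecialLinearGroup.coe_one, _root_.ne_eq, _root_.one_ne_zero, _root_.not_false_eq_true, _root_.Matrix.one_apply_ne, _root_.Cfsg.Agent.H334.Symp.El.emb_x, _root_.MulZeroClass.mul_zero, _root_.Matrix.one_apply_eq, _root_.Cfsg.Agent.H334.Symp.El.emb_y, _root_.zero_ne_one, _root_.sub_self, _root_.Cfsg.Agent.H334.Symp.El.mul_x, _root_.Cfsg.Agent.H334.Symp.El.mul_A, _root_.Cfsg.Agent.H334.Symp.El.emb_A, _root_.one_mul, _root_.MulZeroClass.zero_mul, _root_.Cfsg.Agent.H334.Symp.El.mul_y]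
    · simp [q, up00, up01, up10, up11]
    · simp [q, up00, up01, up10, up11, hy]
    · simp [q, hr]
  rw [h1, map_mul]
  have h2 : g * (f (q k.z 0 0 * emb F (up r)) * f (q 0 k.x 0)) * g⁻¹ =
      (g * f (q k.z 0 0 * emb F (up r)) * g⁻¹) * (g * f (q 0 k.x 0) * g⁻¹) := by group
  rw [h2]
  refine ((Ms F).map f).mul_mem ?_ (hV _)
  obtain ⟨b, hb, hb'⟩ := hgA' _ ⟨_, mem_As'.2 ⟨k.z, r, rfl⟩, rfl⟩
  rw [← hb']
  exact ⟨b, ⟨hb.2.1, hb.2.2⟩, rfl⟩

end

theorem exists_sw {G : Type u} [Group G] [Finite G] {F : Type v} [Field F] [Fintype F] (m : ℕ) (hm : Odd m)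
    (hm1 : 1 < m) (hF : Fintype.card F = 3 ^ m) (h2F : (2 : F) ≠ 0) (h3 : (3 : F) = 0)
    (hc : ∃ (P Q : Sylow 3 G) (a b : G), orderOf a = 3 ∧ orderOf b = 3 ∧ a ∈ (P : Subgroup G) ∧ b ∈ (Q : Subgroup G) ∧
      (∀ p ∈ (P : Subgroup G), p * a = a * p) ∧ (∀ q ∈ (Q : Subgroup G), q * b = b * q) ∧ ¬ IsConj a b)
    (f : El F →* G) (hf : Function.Injective f)
    (S : Setup f.range ((El.Zs F).map f) ((El.Qs F).map f) ((El.Ps F).map f) ((El.Ms F).map f) ((El.Ds F).map f)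
        (f (El.ts F)))
    (hnp : ¬ normalizer (((El.Ms F).map f : Subgroup G) : Set G) ≤ normalizer (((El.Ps F).map f : Subgroup G) : Set G)) :
    Sw f := by
  have h3p : Fact (Nat.Prime 3) := ⟨Nat.prime_three⟩
  have h4 : 3 ^ m % 4 = 3 := by
    obtain ⟨k, rfl⟩ := hm
    rw [pow_succ, pow_mul]
    have : 9 ^ k % 4 = 1 := by
      rw [Nat.pow_mod]; norm_num
    norm_num
    omega
  have h5 : 3 < 3 ^ m := by
    calc 3 = 3 ^ 1 := by norm_num
      _ < 3 ^ m := Nat.pow_lt_pow_right (by norm_num) hm1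
  have hcent : ∀ v : F, v ≠ 0 → ∀ g : G, g * f (q v 0 0) = f (q v 0 0) * g → ∃ k, f k = g := by
    intro v hv g hg
    have h6 : f (q v 0 0) ∈ (Zs F).map f := ⟨_, mem_Zs'.2 ⟨v, rfl⟩, rfl⟩
    have h7 : f (q v 0 0) ≠ 1 := by
      intro h8
      rw [← map_one f] at h8
      exact hv (congrArg El.z (hf h8))
    exact (S.cent _ h6 h7 g).2 hg
  obtain ⟨T, hT⟩ := S.exists_sylow
  -- the swap
  have hKc : ∀ v, v ≠ 0 → ∀ g, (∀ y ∈ (coG f hf).M, g * y * g⁻¹ ∈ (coG f hf).M) →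
      g * (coG f hf).d v = (coG f hf).d v * g →
      ∃ t u v' s r, g = (coG f hf).m t u v' * (coG f hf).a s * (coG f hf).h r := by
    intro v hv g hgM hg
    rw [coG_d] at hg
    obtain ⟨k, rfl⟩ := hcent v hv g hg
    rw [coG_M] at hgM
    obtain ⟨k', ⟨hy', s', hs'⟩, hk'⟩ := hgM (f (emb F (up 1))) ⟨_, ⟨rfl, 1, rfl⟩, rfl⟩
    rw [← map_mul, ← map_inv, ← map_mul] at hk'
    have h6 := hf hk'
    have h7 := congrArg El.A h6
    rw [mul_A, mul_A, inv_A, emb_A, hs'] at h7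
    have h8 := congrArg (fun B : Matrix.SpecialLinearGroup (Fin 2) F => B.1 1 0) h7
    simp only [sl_mul, up00, up01, up10, up11, sl_inv00, sl_inv10] at h8
    have h10 : k.A.1 1 0 = 0 := by
      have : k.A.1 1 0 * k.A.1 1 0 = 0 := by linear_combination h8
      exact mul_self_eq_zero.1 this
    have hdet := det_eq k.A
    rw [h10, mul_zero, sub_zero] at hdet
    have hr0 : k.A.1 0 0 ≠ 0 := by
      intro h; rw [h, zero_mul] at hdet; exact zero_ne_one hdet
    let r : Fˣ := Units.mk0 (k.A.1 0 0) hr0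
    have hr : (r : F) = k.A.1 0 0 := rfl
    have hr' : ((↑r⁻¹ : F)) = k.A.1 1 1 := by
      rw [Units.val_inv_eq_inv_val, hr]
      field_simp
      linear_combination -hdet
    refine ⟨k.A.1 0 1 * k.A.1 0 0, k.x - (k.A.1 0 1 * k.A.1 0 0) * k.y,
      k.z - k.y * (k.x - (k.A.1 0 1 * k.A.1 0 0) * k.y), -k.y, r, ?_⟩
    rw [coG_m, coG_a, coG_h, ← map_mul, ← map_mul]
    congr 1
    ext1
    · simp [up00, up01, up10, up11]; ring
    · simp [up00, up01, up10, up11]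
    · simp [up00, up01, up10, up11]
    · apply sl_ext
      · simp only [mul_A, emb_A, sl_mul, up00, up01, up10, up11, dg00, dg01, dg10, dg11, sl_one00, sl_one01, sl_one10,
          sl_one11, hr]
        ring
      · simp only [mul_A, emb_A, sl_mul, up00, up01, up10, up11, dg00, dg01, dg10, dg11, sl_one00, sl_one01, sl_one10,
          sl_one11, hr']
        linear_combination (-k.A.1 0 1) * hdet
      · simp only [mul_A, emb_A, sl_mul, up00, up01, up10, up11, dg00, dg01, dg10, dg11, sl_one00, sl_one01, sl_one10,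
          sl_one11, h10]
        ring
      · simp only [mul_A, emb_A, sl_mul, up00, up01, up10, up11, dg00, dg01, dg10, dg11, sl_one00, sl_one01, sl_one10,
          sl_one11, hr']
        ring
  have hc' : ∃ (u v : G) (Pu Pv : Sylow 3 G), orderOf u = 3 ∧ orderOf v = 3 ∧
      u ∈ (Pu : Subgroup G) ∧ (∀ y ∈ (Pu : Subgroup G), y * u = u * y) ∧
      v ∈ (Pv : Subgroup G) ∧ (∀ y ∈ (Pv : Subgroup G), y * v = v * y) ∧ ∀ g : G, g * u * g⁻¹ ≠ v := by
    obtain ⟨P, Q, a, b, h1, h2, h3, h4, h5, h6, h7⟩ := hc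
    exact ⟨a, b, P, Q, h1, h2, h3, h5, h4, h6, fun g hg => h7 (isConj_iff.2 ⟨g, hg⟩)⟩
  obtain ⟨⟨n, hn, hn1, hn2⟩, hpt⟩ := exists_swap (p := 3) (n := m) (by norm_num) (by omega) h4 h5 hF h2F (coG f hf) hKc
    hc' T (by rw [coG_P, hT]) (by rw [coG_M, coG_P]; exact hnp)
  rw [coG_Z, coG_X] at hn1 hn2
  simp only [coG_M, coG_Z, coG_X, coG_D] at hpt hn
  have hnZ : ∀ x, x ∈ (Zs F).map f ↔ n * x * n⁻¹ ∈ (Xs F).map f := by
    intro x
    rw [← hn1, mem_cj]
    have : n⁻¹ * (n * x * n⁻¹) * n = x := by group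
    rw [this]
  have hnX : ∀ x, x ∈ (Xs F).map f ↔ n * x * n⁻¹ ∈ (Zs F).map f := by
    intro x
    rw [← hn2, mem_cj]
    have : n⁻¹ * (n * x * n⁻¹) * n = x := by group
    rw [this]
  -- `n⁻¹ t n` centralises `A`
  have hAdec : ∀ a ∈ (As F).map f, ∃ z ∈ (Zs F).map f, ∃ x ∈ (Xs F).map f, a = z * x := by
    rintro _ ⟨k, hk, rfl⟩
    obtain ⟨v, s, rfl⟩ := mem_As'.1 hk
    exact ⟨_, ⟨_, mem_Zs'.2 ⟨v, rfl⟩, rfl⟩, _, ⟨_, mem_Xs'.2 ⟨s, rfl⟩, rfl⟩, map_mul _ _ _⟩
  have hZA : (Zs F).map f ≤ (As F).map f := map_mono Zs_le_As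
  have hXA : (Xs F).map f ≤ (As F).map f := map_mono Xs_le_As
  have hnA : ∀ a ∈ (As F).map f, n * a * n⁻¹ ∈ (As F).map f := by
    intro a ha
    obtain ⟨z, hz, x, hx, rfl⟩ := hAdec a ha
    have : n * (z * x) * n⁻¹ = (n * z * n⁻¹) * (n * x * n⁻¹) := by group
    rw [this]
    exact ((As F).map f).mul_mem (hXA ((hnZ z).1 hz)) (hZA ((hnX x).1 hx))
  have htA : ∀ a ∈ (As F).map f, f (ts F) * a = a * f (ts F) := by
    rintro _ ⟨k, hk, rfl⟩
    rw [← map_mul, ← map_mul, (ts_comm_iff h2F).2 ⟨hk.1, hk.2.1⟩]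
  have ht1 : ∀ a ∈ (As F).map f, (n⁻¹ * f (ts F) * n) * a = a * (n⁻¹ * f (ts F) * n) := by
    intro a ha
    have h6 := htA _ (hnA a ha)
    calc (n⁻¹ * f (ts F) * n) * a = n⁻¹ * (f (ts F) * (n * a * n⁻¹)) * n := by group
      _ = n⁻¹ * ((n * a * n⁻¹) * f (ts F)) * n := by rw [h6]
      _ = a * (n⁻¹ * f (ts F) * n) := by group
  obtain ⟨k, hk, hky, hk10, hk00⟩ := centA hf hcent ht1
  have hk2 : k * k = 1 := by
    apply hf
    rw [map_mul, hk, map_one]
    have : n⁻¹ * f (ts F) * n * (n⁻¹ * f (ts F) * n) = n⁻¹ * (f (ts F) * f (ts F)) * n := by group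
    rw [this, ← map_mul, ts_sq, map_one]; group
  have hk1 : k ≠ 1 := by
    rintro rfl
    rw [map_one] at hk
    have h6 : f (ts F) = 1 := by
      calc f (ts F) = n * (n⁻¹ * f (ts F) * n) * n⁻¹ := by group
        _ = 1 := by rw [← hk]; group
    rw [← map_one f] at h6
    have h7 := hf h6
    have h8 := orderOf_ts h2F (F := F)
    rw [h7, orderOf_one] at h8
    norm_num at h8
  have hdet := det_eq k.A
  rw [hk10, ← hk00, mul_zero, sub_zero] at hdet
  have hkA2 := congrArg El.A hk2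
  rw [mul_A, one_A] at hkA2
  have hk01 : k.A.1 0 1 = 0 := by
    have h6 := congrArg (fun B : Matrix.SpecialLinearGroup (Fin 2) F => B.1 0 1) hkA2
    simp only [sl_mul, sl_one01] at h6
    rw [← hk00] at h6
    have h7 : k.A.1 0 0 ≠ 0 := by
      intro h; rw [h, zero_mul] at hdet; exact zero_ne_one hdet
    have h8 : (2 * k.A.1 0 0) * k.A.1 0 1 = 0 := by linear_combination h6
    rcases mul_eq_zero.1 h8 with h | h
    · exact absurd h (mul_ne_zero h2F h7)
    · exact h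
  have hka : k.A.1 0 0 = -1 := by
    rcases mul_self_eq_one_iff.1 hdet with h | h
    · exfalso
      apply hk1
      have hA1 : k.A = 1 := by
        apply sl_ext
        · rw [h, sl_one00]
        · rw [hk01, sl_one01]
        · rw [hk10, sl_one10]
        · rw [← hk00, h, sl_one11]
      have h6 := Qs_pow h3 (mem_Qs.2 hA1)
      calc k = k ^ 3 * (k * k)⁻¹ := by rw [pow_succ, pow_two]; group
        _ = 1 := by rw [h6, hk2]; group
    · exact h
  have hkz : k.z = 0 := by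
    have h6 := congrArg El.z hk2
    simp only [mul_z, one_z, hky, hk10] at h6
    have h7 : (2 : F) * k.z = 0 := by linear_combination h6
    exact (mul_eq_zero.1 h7).resolve_left h2F
  -- `k = c t c⁻¹`
  have hkc : f k = f (q 0 (k.x / 2) 0) * f (ts F) * (f (q 0 (k.x / 2) 0))⁻¹ := by
    rw [← map_mul, ← map_inv, ← map_mul]
    congr 1
    have hts00 : (ts F).A.1 0 0 = -1 := by
      show ((-1 : Matrix.SpecialLinearGroup (Fin 2) F)).1 0 0 = -1
      rw [neg_one_apply, sl_one00]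
    have hts01 : (ts F).A.1 0 1 = 0 := by
      show ((-1 : Matrix.SpecialLinearGroup (Fin 2) F)).1 0 1 = 0
      rw [neg_one_apply, sl_one01, neg_zero]
    have hts10 : (ts F).A.1 1 0 = 0 := by
      show ((-1 : Matrix.SpecialLinearGroup (Fin 2) F)).1 1 0 = 0
      rw [neg_one_apply, sl_one10, neg_zero]
    have hts11 : (ts F).A.1 1 1 = -1 := by
      show ((-1 : Matrix.SpecialLinearGroup (Fin 2) F)).1 1 1 = -1
      rw [neg_one_apply, sl_one11]
    have htz : (ts F).z = 0 := rfl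
    have htx : (ts F).x = 0 := rfl
    have hty : (ts F).y = 0 := rfl
    ext1
    · rw [q_inv]
      simp only [mul_z, mul_x, mul_y, mul_A, sl_mul, q, sl_one00, sl_one01, sl_one10, sl_one11, hts00, hts01, hts10, hts11,
        htz, htx, hty, hkz]
      ring
    · rw [q_inv]
      simp only [mul_z, mul_x, mul_y, mul_A, sl_mul, q, sl_one00, sl_one01, sl_one10, sl_one11, hts00, hts01, hts10, hts11,
        htz, htx, hty, hkz]
      field_simp
      ring
    · rw [q_inv]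
      simp only [mul_z, mul_x, mul_y, mul_A, sl_mul, q, sl_one00, sl_one01, sl_one10, sl_one11, hts00, hts01, hts10, hts11,
        htz, htx, hty, hkz, hky]
      ring
    · rw [q_inv]
      apply sl_ext
      · simp only [mul_A, sl_mul, q, sl_one00, sl_one01, sl_one10, sl_one11, hts00, hts01, hts10, hts11, hka]
        ring
      · simp only [mul_A, sl_mul, q, sl_one00, sl_one01, sl_one10, sl_one11, hts00, hts01, hts10, hts11, hk01]
        ring
      · simp only [mul_A, sl_mul, q, sl_one00, sl_one01, sl_one10, sl_one11, hts00, hts01, hts10, hts11, hk10]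
        ring
      · simp only [mul_A, sl_mul, q, sl_one00, sl_one01, sl_one10, sl_one11, hts00, hts01, hts10, hts11, ← hk00, hka]
        ring
  set c : G := f (q 0 (k.x / 2) 0) with hcdef
  have hcA : ∀ a ∈ (As F).map f, c * a * c⁻¹ = a := by
    rintro _ ⟨b, hb, rfl⟩
    have h6 : q 0 (k.x / 2) 0 * b = b * q 0 (k.x / 2) 0 := by
      apply Ms_comm (F := F)
      · exact ⟨rfl, 0, by rw [up_zero]; rfl⟩
      · exact ⟨hb.2.1, hb.2.2⟩
    rw [hcdef, ← map_mul, h6, map_mul, mul_inv_cancel_right]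
  refine ⟨hf, hcent, ⟨n * c, ?_, ?_, ?_⟩, ?_, ?_⟩
  · have h6 : n⁻¹ * f (ts F) * n = c * f (ts F) * c⁻¹ := by rw [← hk]; exact hkc
    calc n * c * f (ts F) = n * (c * f (ts F) * c⁻¹) * c := by group
      _ = n * (n⁻¹ * f (ts F) * n) * c := by rw [h6]
      _ = f (ts F) * (n * c) := by group
  · intro x
    constructor
    · intro hx
      have : n * c * x * (n * c)⁻¹ = n * (c * x * c⁻¹) * n⁻¹ := by group
      rw [this, hcA x (hZA hx)]
      exact (hnZ x).1 hx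
    · intro hx
      have e6 : n * c * x * (n * c)⁻¹ = n * (c * x * c⁻¹) * n⁻¹ := by group
      rw [e6, ← hnZ] at hx
      have h7 := hcA _ (hZA hx)
      have h8 : c * x * c⁻¹ = x := by
        have h9 : c⁻¹ * (c * (c * x * c⁻¹) * c⁻¹) * c = c⁻¹ * (c * x * c⁻¹) * c := by rw [h7]
        have e1 : c⁻¹ * (c * (c * x * c⁻¹) * c⁻¹) * c = c * x * c⁻¹ := by group
        have e2 : c⁻¹ * (c * x * c⁻¹) * c = x := by group
        rw [e1, e2] at h9
        exact h9
      rwa [h8] at hx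
  · intro x
    constructor
    · intro hx
      have : n * c * x * (n * c)⁻¹ = n * (c * x * c⁻¹) * n⁻¹ := by group
      rw [this, hcA x (hXA hx)]
      exact (hnX x).1 hx
    · intro hx
      have e6 : n * c * x * (n * c)⁻¹ = n * (c * x * c⁻¹) * n⁻¹ := by group
      rw [e6, ← hnX] at hx
      have h7 := hcA _ (hXA hx)
      have h8 : c * x * c⁻¹ = x := by
        have h9 : c⁻¹ * (c * (c * x * c⁻¹) * c⁻¹) * c = c⁻¹ * (c * x * c⁻¹) * c := by rw [h7]
        have e1 : c⁻¹ * (c * (c * x * c⁻¹) * c⁻¹) * c = c * x * c⁻¹ := by group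
        have e2 : c⁻¹ * (c * x * c⁻¹) * c = x := by group
        rw [e1, e2] at h9
        exact h9
      rwa [h8] at hx
  · -- the points in `A`
    intro g hgt hgA
    have hgA' : ∀ a ∈ (As F).map f, ∃ b ∈ (As F).map f, a = g * b * g⁻¹ := by
      have h6 := Cfsg.Agent.H334.Symp.mem_normalizer_of_conj_le hgA
      intro a ha
      refine ⟨g⁻¹ * a * g, ?_, by group⟩
      rw [mem_normalizer_iff] at h6
      rw [h6]
      have : g * (g⁻¹ * a * g) * g⁻¹ = a := by group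
      rwa [this]
    have hgM := norm_M h2F h3 hf hcent hgA' hgA
    have hgN := Cfsg.Agent.H334.Symp.mem_normalizer_of_conj_le hgM
    have h6 : cj g ((Zs F).map f) ≤ (As F).map f := by
      intro x hx
      rw [mem_cj] at hx
      have h7 := hgA _ (hZA hx)
      have : g * (g⁻¹ * x * g) * g⁻¹ = x := by group
      rwa [this] at h7
    rcases hpt g hgN h6 with h7 | h7
    · left
      intro x hx
      rw [← h7]
      exact conj_mem_cj hx
    · right
      intro x hx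
      rw [← h7]
      exact conj_mem_cj hx
  · -- no inversion
    intro v hv g hg
    have hm1 : ¬ IsSquare (-1 : F) := by
      rw [FiniteField.isSquare_neg_one_iff, hF]
      exact fun h => h h4
    -- conjugacy in `Z`
    have key : ∀ v₁ v₂ : F, v₁ ≠ 0 → v₂ ≠ 0 → ∃ g : G, g * f (q v₁ 0 0) * g⁻¹ = f (q v₂ 0 0) ∨
        g * f (q v₁ 0 0) * g⁻¹ = f (q (-v₂) 0 0) := by
      intro v₁ v₂ h₁ h₂
      have hZ : ∀ v : F, v ≠ 0 → ∃ s : F, s ≠ 0 ∧ n * f (q v 0 0) * n⁻¹ = f (emb F (up s)) := by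
        intro v hv
        obtain ⟨k, hk, hk'⟩ := (hnZ (f (q v 0 0))).1 ⟨_, mem_Zs'.2 ⟨v, rfl⟩, rfl⟩
        obtain ⟨s, rfl⟩ := mem_Xs'.1 hk
        refine ⟨s, ?_, hk'.symm⟩
        rintro rfl
        rw [up_zero, map_one, map_one] at hk'
        have h6 : f (q v 0 0) = 1 := by
          calc f (q v 0 0) = n⁻¹ * (n * f (q v 0 0) * n⁻¹) * n := by group
            _ = 1 := by rw [← hk']; group
        rw [← map_one f] at h6
        exact hv (congrArg El.z (hf h6))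
      obtain ⟨s₁, hs₁, e₁⟩ := hZ v₁ h₁
      obtain ⟨s₂, hs₂, e₂⟩ := hZ v₂ h₂
      have hconj : ∀ (r : Fˣ) (s : F), f (emb F (dg r)) * f (emb F (up s)) * (f (emb F (dg r)))⁻¹ =
          f (emb F (up ((r : F) * r * s))) := by
        intro r s
        rw [← map_inv, ← map_mul, ← map_mul, ← map_inv, ← map_mul, ← map_mul]
        congr 2
        have := r.ne_zero
        apply sl_ext
        · simp only [sl_mul, dg00, dg01, dg10, dg11, up00, up01, up10, up11, sl_inv00, sl_inv01, sl_inv10, sl_inv11,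
            Units.val_inv_eq_inv_val]
          field_simp
          ring
        · simp only [sl_mul, dg00, dg01, dg10, dg11, up00, up01, up10, up11, sl_inv00, sl_inv01, sl_inv10, sl_inv11,
            Units.val_inv_eq_inv_val]
          ring
        · simp only [sl_mul, dg00, dg01, dg10, dg11, up00, up01, up10, up11, sl_inv00, sl_inv01, sl_inv10, sl_inv11,
            Units.val_inv_eq_inv_val]
          ring
        · simp only [sl_mul, dg00, dg01, dg10, dg11, up00, up01, up10, up11, sl_inv00, sl_inv01, sl_inv10, sl_inv11,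
            Units.val_inv_eq_inv_val]
          field_simp
          ring
      rcases sq_or_neg h2F hm1 (Units.mk0 s₂ hs₂ / Units.mk0 s₁ hs₁) with ⟨r, hr⟩ | ⟨r, hr⟩
      · have hr' : s₂ = (r : F) * r * s₁ := by
          have := congrArg (fun x : Fˣ => (x : F)) hr
          simp only [Units.val_div_eq_div_val, Units.val_mk0, Units.val_mul] at this
          rw [← this]; field_simp
        refine ⟨n⁻¹ * f (emb F (dg r)) * n, Or.inl ?_⟩
        have : n⁻¹ * f (emb F (dg r)) * n * f (q v₁ 0 0) * (n⁻¹ * f (emb F (dg r)) * n)⁻¹ =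
          n⁻¹ * (f (emb F (dg r)) * (n * f (q v₁ 0 0) * n⁻¹) * (f (emb F (dg r)))⁻¹) * n := by group
        rw [this, e₁, hconj, ← hr', ← e₂]
        group
      · have hr' : -s₂ = (r : F) * r * s₁ := by
          have := congrArg (fun x : Fˣ => (x : F)) hr
          simp only [Units.val_neg, Units.val_div_eq_div_val, Units.val_mk0, Units.val_mul] at this
          rw [← this]; field_simp
        refine ⟨n⁻¹ * f (emb F (dg r)) * n, Or.inr ?_⟩
        have e6 : n⁻¹ * f (emb F (dg r)) * n * f (q v₁ 0 0) * (n⁻¹ * f (emb F (dg r)) * n)⁻¹ =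
          n⁻¹ * (f (emb F (dg r)) * (n * f (q v₁ 0 0) * n⁻¹) * (f (emb F (dg r)))⁻¹) * n := by group
        have e7 : f (emb F (up (-s₂))) = n * f (q (-v₂) 0 0) * n⁻¹ := by
          have h6 : q (-v₂) 0 0 = (q v₂ 0 0)⁻¹ := by rw [q_inv, neg_zero]
          rw [up_neg, map_inv, map_inv, ← e₂, h6, map_inv]
          group
        rw [e6, e₁, hconj, ← hr', e7]
        group
    have hneg : ∀ v : F, f (q (-v) 0 0) = (f (q v 0 0))⁻¹ := by
      intro v
      have h6 : q (-v) 0 0 = (q v 0 0)⁻¹ := by rw [q_inv, neg_zero]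
      rw [h6, map_inv]
    have hall : ∀ v₂ : F, v₂ ≠ 0 → IsConj (f (q v 0 0)) (f (q v₂ 0 0)) := by
      intro v₂ hv₂
      obtain ⟨g', h6 | h6⟩ := key v v₂ hv hv₂
      · exact isConj_iff.2 ⟨g', h6⟩
      · refine isConj_iff.2 ⟨g' * g⁻¹, ?_⟩
        have h7 : g⁻¹ * f (q v 0 0) * g = f (q (-v) 0 0) := by
          have h8 : g⁻¹ * f (q (-v) 0 0) * g = f (q v 0 0) := by rw [← hg]; group
          rw [hneg] at h8 ⊢
          have h9 := congrArg (fun y => y⁻¹) h8
          simp only [mul_inv_rev, inv_inv] at h9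
          rw [← h9]; group
        have e6 : g' * g⁻¹ * f (q v 0 0) * (g' * g⁻¹)⁻¹ = g' * (g⁻¹ * f (q v 0 0) * g) * g'⁻¹ := by group
        rw [e6, h7, hneg]
        have h9 := congrArg (fun y => y⁻¹) h6
        simp only [mul_inv_rev, inv_inv] at h9
        rw [hneg, inv_inv] at h9
        rw [← h9]; group
    obtain ⟨a, b, Pa, Pb, ha, hb, haP, haC, hbP, hbC, hab⟩ := hc'
    obtain ⟨g1, w1, hw1, e1⟩ := exists_conj_d h2F (coG f hf) T (by rw [coG_P, hT]) a Pa ha haP haC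
    obtain ⟨g2, w2, hw2, e2⟩ := exists_conj_d h2F (coG f hf) T (by rw [coG_P, hT]) b Pb hb hbP hbC
    rw [coG_d] at e1 e2
    have h6 : IsConj a b := by
      have h7 : IsConj a (f (q w1 0 0)) := isConj_iff.2 ⟨g1, e1⟩
      have h8 : IsConj b (f (q w2 0 0)) := isConj_iff.2 ⟨g2, e2⟩
      exact (h7.trans ((hall w1 hw1).symm.trans (hall w2 hw2))).trans h8.symm
    obtain ⟨g3, hg3⟩ := isConj_iff.1 h6
    exact hab g3 hg3

end Cfsg.Agent.H334.Sp4
end

-- part: H334/Sp4/Twin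
section
/-!
# Groups with centralizers of 3-elements of type `Z × L`, and a swap

`X` a finite group with a subgroup `Z × L`, `L` simple, `D` a Sylow 3-subgroup of `L`, `C_X(z) = Z × L` for all
`1 ≠ z ∈ Z`, `Z D` a Sylow 3-subgroup of `X` and `w` interchanging `Z` and `D`. If large elementary abelian
Sylow 3-subgroups occur only in simple groups with abelian centralizers of elements of order 3 (`Star`) then `L` and
`w L w⁻¹` commute and their product is normal.
-/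

set_option autoImplicit false

universe u

open Subgroup

namespace Cfsg.Agent.H334.Sp4

open Cfsg.Agent.H334.Symp

/-- a simple group with elementary abelian Sylow 3-subgroups of order greater than `81` has abelian centralizers of
elements of order 3 (it is `PSL(2, 3^n)`) -/
def Star : Prop := ∀ (K : Type u) [Group K] [Finite K] [IsSimpleGroup K],
  (∀ S : Sylow 3 K, ∀ x ∈ (S : Subgroup K), x ^ 3 = 1 ∧ ∀ y ∈ (S : Subgroup K), x * y = y * x) →
  (∀ S : Sylow 3 K, 81 < Nat.card S) →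
  ∀ z : K, orderOf z = 3 → ∀ g h : K, g * z = z * g → h * z = z * h → g * h = h * g

/-! ### Coordinates on a minimal normal subgroup -/

section Coord

open Cfsg.Agent.H794.SocleCount

variable {G : Type*} [Group G] {N : Subgroup G} {m : ℕ} {T : Fin m → Subgroup G} {e : N ≃* (∀ i, T i)}

theorem Coord.eq_symm (C : Coord N m T e) {i : Fin m} {t : G} (ht : t ∈ T i) :
    (⟨t, C.le i ht⟩ : N) = e.symm (Pi.mulSingle i ⟨t, ht⟩) := Subtype.ext (C.single i ⟨t, ht⟩).symm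

theorem Coord.apply_mem (C : Coord N m T e) {i : Fin m} {t : G} (ht : t ∈ T i) :
    e ⟨t, C.le i ht⟩ = Pi.mulSingle i ⟨t, ht⟩ := by
  rw [Coord.eq_symm C ht, MulEquiv.apply_symm_apply]

/-- the factors are normal in `N`, with control of the coordinates -/
theorem Coord.conj_eq (C : Coord N m T e) {i : Fin m} {n t : G} (hn : n ∈ N) (ht : t ∈ T i) :
    n * t * n⁻¹ = (e ⟨n, hn⟩ i * ⟨t, ht⟩ * (e ⟨n, hn⟩ i)⁻¹ : T i) := by
  rw [← C.single i]
  have h1 : e.symm (Pi.mulSingle i (e ⟨n, hn⟩ i * ⟨t, ht⟩ * (e ⟨n, hn⟩ i)⁻¹)) =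
      (⟨n, hn⟩ : N) * ⟨t, C.le i ht⟩ * (⟨n, hn⟩ : N)⁻¹ := by
    rw [MulEquiv.symm_apply_eq, map_mul, map_mul, map_inv, Coord.apply_mem C ht]
    funext j
    by_cases hj : j = i
    · subst hj
      simp only [_root_.Pi.mulSingle_eq_same, _root_.Pi.mul_apply, _root_.Pi.inv_apply]
    · simp only [hj, _root_.ne_eq, _root_.not_false_eq_true, _root_.Pi.mulSingle_eq_of_ne, _root_.Pi.mul_apply, _root_.mul_one, _root_.Pi.inv_apply, _root_.mul_inv_cancel]
  rw [h1]
  rfl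

theorem Coord.conj_mem (C : Coord N m T e) {i : Fin m} {n t : G} (hn : n ∈ N) (ht : t ∈ T i) :
    n * t * n⁻¹ ∈ T i := by
  rw [Coord.conj_eq C hn ht]
  exact Subtype.mem _

theorem Coord.comm (C : Coord N m T e) {i j : Fin m} (hij : i ≠ j) {a b : G} (ha : a ∈ T i) (hb : b ∈ T j) :
    a * b = b * a := by
  have h1 := Coord.conj_eq C (C.le i ha) hb
  rw [Coord.apply_mem C ha, Pi.mulSingle_eq_of_ne (Ne.symm hij), one_mul, inv_one, mul_one] at h1
  exact mul_inv_eq_iff_eq_mul.1 h1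

/-- the coordinate of an element commuting with `z` commutes with `z` -/
theorem Coord.coord_comm (C : Coord N m T e) {i : Fin m} {n z : G} (hn : n ∈ N) (hz : z ∈ N) (h : n * z = z * n) :
    ((e ⟨n, hn⟩ i : T i) : G) * z = z * ((e ⟨n, hn⟩ i : T i) : G) := by
  have h1 := Coord.conj_eq C hz (e ⟨n, hn⟩ i).2
  have h2 : e ⟨z, hz⟩ i * e ⟨n, hn⟩ i = e ⟨n, hn⟩ i * e ⟨z, hz⟩ i := by
    have h3 : (⟨z, hz⟩ : N) * ⟨n, hn⟩ = ⟨n, hn⟩ * ⟨z, hz⟩ := Subtype.ext h.symm
    have h4 := congrFun (congrArg e h3) i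
    rw [map_mul, map_mul] at h4
    exact h4
  have h3 : e ⟨z, hz⟩ i * ⟨(e ⟨n, hn⟩ i : T i), (e ⟨n, hn⟩ i).2⟩ * (e ⟨z, hz⟩ i)⁻¹ = e ⟨n, hn⟩ i := by
    show e ⟨z, hz⟩ i * e ⟨n, hn⟩ i * (e ⟨z, hz⟩ i)⁻¹ = e ⟨n, hn⟩ i
    rw [h2, mul_inv_cancel_right]
  rw [h3] at h1
  exact (mul_inv_eq_iff_eq_mul.1 h1).symm

end Coord

structure Twin {X : Type u} [Group X] (Z L D : Subgroup X) (w h : X) : Prop where
  Z3 : ∀ z ∈ Z, z ^ 3 = 1
  cardZ : 27 ∣ Nat.card Z
  Zab : ∀ z ∈ Z, ∀ z' ∈ Z, z * z' = z' * z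
  simple : IsSimpleGroup L
  nc : ∃ a ∈ L, ∃ b ∈ L, a * b ≠ b * a
  DL : D ≤ L
  D3 : ∀ d ∈ D, d ^ 3 = 1
  Dab : ∀ z ∈ D, ∀ z' ∈ D, z * z' = z' * z
  comm : ∀ z ∈ Z, ∀ l ∈ L, z * l = l * z
  cent : ∀ z ∈ Z, z ≠ 1 → ∀ g : X, g * z = z * g → ∃ z' ∈ Z, ∃ l ∈ L, g = z' * l
  hL : h ∈ L
  hD : ∀ d ∈ D, d ≠ 1 → h * d * h⁻¹ * d⁻¹ ∈ D ∧ h * d * h⁻¹ * d⁻¹ ≠ 1
  wZ : ∀ x, x ∈ Z ↔ w * x * w⁻¹ ∈ D
  wD : ∀ x, x ∈ D ↔ w * x * w⁻¹ ∈ Z
  syl : ∃ A : Subgroup X, IsPGroup 3 A ∧ ¬ 3 ∣ A.index ∧ ∀ a, a ∈ A ↔ ∃ z ∈ Z, ∃ d ∈ D, a = z * d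

namespace Twin

variable {X : Type u} [Group X] {Z L D : Subgroup X} {w h : X}

theorem eq_one_of_mem (T : Twin Z L D w h) {x : X} (hx : x ∈ L) (hc : ∀ l ∈ L, x * l = l * x) : x = 1 := by
  have := T.simple
  obtain ⟨a, ha, b, hb, hab⟩ := T.nc
  by_contra hne
  have h1 : center L = ⊤ := by
    have h2 : (center L).Normal := inferInstance
    rcases h2.eq_bot_or_eq_top with h3 | h3
    · exfalso
      apply hne
      have h4 : (⟨x, hx⟩ : L) ∈ center L := by
        rw [mem_center_iff]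
        intro g
        exact Subtype.ext (hc g g.2).symm
      rw [h3, mem_bot] at h4
      exact congrArg Subtype.val h4
    · exact h3
  apply hab
  have h2 : (⟨a, ha⟩ : L) ∈ center L := by rw [h1]; trivial
  exact (congrArg Subtype.val ((mem_center_iff.1 h2) ⟨b, hb⟩)).symm

/-- a subgroup normalised by `L` which contains a nontrivial element of `L` contains `L` -/
theorem L_le (T : Twin Z L D w h) {N : Subgroup X} (hN : ∀ l ∈ L, ∀ n ∈ N, l * n * l⁻¹ ∈ N) {x : X} (hx : x ∈ L)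
    (hxN : x ∈ N) (hx1 : x ≠ 1) : L ≤ N := by
  have := T.simple
  have h1 : (N.subgroupOf L).Normal := ⟨fun n hn g => by
    rw [mem_subgroupOf] at hn ⊢
    exact hN g g.2 _ hn⟩
  rcases h1.eq_bot_or_eq_top with h2 | h2
  · exfalso
    have h3 : (⟨x, hx⟩ : L) ∈ N.subgroupOf L := by rw [mem_subgroupOf]; exact hxN
    rw [h2, mem_bot] at h3
    exact hx1 (congrArg Subtype.val h3)
  · rwa [subgroupOf_eq_top] at h2

theorem inf_eq (T : Twin Z L D w h) {x : X} (hz : x ∈ Z) (hx : x ∈ L) : x = 1 :=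
  T.eq_one_of_mem hx fun l hl => T.comm x hz l hl

theorem exists_ne [Finite X] (T : Twin Z L D w h) : ∃ z ∈ Z, z ≠ 1 := by
  by_contra hcon
  have h1 : Z = ⊥ := by
    rw [Subgroup.eq_bot_iff_forall]
    intro z hz
    by_contra h
    exact hcon ⟨z, hz, h⟩
  have h2 := T.cardZ
  rw [h1, Subgroup.card_bot] at h2
  norm_num at h2

/-- normal 3'-subgroups are trivial -/
theorem eq_bot [Finite X] (T : Twin Z L D w h) {N : Subgroup X} (hN : N.Normal)
    (hc : Nat.Coprime 3 (Nat.card N)) : N = ⊥ := by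
  have : Fact (Nat.Prime 3) := ⟨Nat.prime_three⟩
  have h3 : ∀ x ∈ N, x ^ 3 = 1 → x = 1 := by
    intro x hx hx3
    have h1 : orderOf x ∣ 3 := orderOf_dvd_of_pow_eq_one hx3
    have h2 : orderOf x ∣ Nat.card N := by
      rw [← Subgroup.orderOf_mk x hx]
      exact _root_.orderOf_dvd_natCard _
    have h3 : orderOf x ∣ 1 := by
      rw [← (Nat.coprime_iff_gcd_eq_one.1 hc)]
      exact Nat.dvd_gcd h1 h2
    exact orderOf_eq_one_iff.1 (Nat.dvd_one.1 h3)
  have hab : IsMulCommutative Z := ⟨⟨fun a b => Subtype.ext (T.Zab a a.2 b b.2)⟩⟩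
  have hcyc : ¬ IsCyclic Z := by
    intro hc
    obtain ⟨g, hg⟩ := hc.exists_generator
    have h1 : orderOf g = Nat.card Z := orderOf_eq_card_of_forall_mem_zpowers hg
    have h2 : g ^ 3 = 1 := Subtype.ext (by simpa only [_root_.SubmonoidClass.coe_pow, _root_.OneMemClass.coe_one] using T.Z3 g g.2)
    have h3 : orderOf g ∣ 3 := orderOf_dvd_of_pow_eq_one h2
    have h4 : 27 ∣ 3 := by
      rw [h1] at h3
      exact T.cardZ.trans h3
    norm_num at h4
  have hcop : (Nat.card Z).Coprime (Nat.card N) := by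
    obtain ⟨n, hn⟩ := IsPGroup.iff_card.1 (isPGroup_of_pow T.Z3)
    rw [hn]
    exact Nat.Coprime.pow_left n hc
  have hnorm : Z ≤ normalizer (N : Set X) := by
    rw [normalizer_eq_top (H := N)]
    exact le_top
  have h1 := Cfsg.Agent.S0058.result Z N hcyc hnorm hcop
  rw [← h1, eq_bot_iff]
  refine iSup₂_le fun a ha => ?_
  intro x hx
  rw [mem_bot]
  have hxa : x * a = a * x := ((mem_centralizer_iff.1 hx.2) a rfl).symm
  obtain ⟨z', hz', l, hl, rfl⟩ := T.cent a ha.1 ha.2 x hxa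
  have hl1 : l = 1 := by
    refine T.eq_one_of_mem hl fun l' hl' => ?_
    by_contra hne
    have h2 : l * l' * l⁻¹ * l'⁻¹ ∈ N := by
      have h3 : l * l' * l⁻¹ * l'⁻¹ = (z' * l) * (l' * (z' * l)⁻¹ * l'⁻¹) := by
        have h4 := T.comm z' hz' (l * l' * l⁻¹ * l'⁻¹) (L.mul_mem (L.mul_mem (L.mul_mem hl hl') (L.inv_mem hl)) (L.inv_mem hl'))
        have h5 := T.comm z' hz' l' hl'
        calc l * l' * l⁻¹ * l'⁻¹ = z'⁻¹ * (z' * (l * l' * l⁻¹ * l'⁻¹)) := by group
          _ = z'⁻¹ * (l * l' * l⁻¹ * l'⁻¹ * z') := by rw [h4]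
          _ = z'⁻¹ * (l * l' * l⁻¹ * (l'⁻¹ * z')) := by group
          _ = z'⁻¹ * (l * l' * l⁻¹ * (z' * l'⁻¹)) := by
            have h6 : l'⁻¹ * z' = z' * l'⁻¹ := (T.comm z' hz' l'⁻¹ (L.inv_mem hl')).symm
            rw [h6]
          _ = z'⁻¹ * (l * l' * (l⁻¹ * z') * l'⁻¹) := by group
          _ = z'⁻¹ * (l * l' * (z' * l⁻¹) * l'⁻¹) := by
            have h6 : l⁻¹ * z' = z' * l⁻¹ := (T.comm z' hz' l⁻¹ (L.inv_mem hl)).symm
            rw [h6]
          _ = z'⁻¹ * (l * (l' * z') * l⁻¹ * l'⁻¹) := by group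
          _ = z'⁻¹ * (l * (z' * l') * l⁻¹ * l'⁻¹) := by rw [h5]
          _ = z'⁻¹ * ((l * z') * l' * l⁻¹ * l'⁻¹) := by group
          _ = z'⁻¹ * ((z' * l) * l' * l⁻¹ * l'⁻¹) := by rw [T.comm z' hz' l hl]
          _ = l * l' * l⁻¹ * l'⁻¹ := by group
          _ = z' * (l * l' * l⁻¹ * l'⁻¹) * z'⁻¹ := by rw [h4]; group
          _ = (z' * l) * l' * (l⁻¹ * l'⁻¹ * z'⁻¹) := by group
          _ = (z' * l) * l' * (z'⁻¹ * (l⁻¹ * l'⁻¹)) := by
            have h6 : (l' * l) * z' = z' * (l' * l) := (T.comm z' hz' _ (L.mul_mem hl' hl)).symm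
            have h7 : l⁻¹ * l'⁻¹ * z'⁻¹ = z'⁻¹ * (l⁻¹ * l'⁻¹) := by
              have h8 := congrArg (fun y => y⁻¹) h6
              simp only [mul_inv_rev] at h8
              exact h8.symm
            rw [h7]
          _ = (z' * l) * (l' * (l * z')⁻¹ * l'⁻¹) := by group
          _ = (z' * l) * (l' * (z' * l)⁻¹ * l'⁻¹) := by rw [T.comm z' hz' l hl]
      rw [h3]
      exact N.mul_mem hx.1 (hN.conj_mem _ (N.inv_mem hx.1) l')
    have h4 : L ≤ N := by
      refine T.L_le (fun l hl n hn => hN.conj_mem n hn l) (x := l * l' * l⁻¹ * l'⁻¹)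
        (L.mul_mem (L.mul_mem (L.mul_mem hl hl') (L.inv_mem hl)) (L.inv_mem hl')) h2 ?_
      intro h5
      apply hne
      rw [mul_inv_eq_one, mul_inv_eq_iff_eq_mul] at h5
      exact h5
    obtain ⟨z, hz, hz1⟩ := T.exists_ne
    have h5 := (T.wZ z).1 hz
    have h6 := h3 _ (h4 (T.DL h5)) (T.D3 _ h5)
    apply hz1
    calc z = w⁻¹ * (w * z * w⁻¹) * w := by group
      _ = 1 := by rw [h6]; group
  subst hl1
  rw [mul_one] at hx ⊢
  exact h3 _ hx.1 (T.Z3 _ hz')

/-- nontrivial normal subgroups contain `L` and `Z` -/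
theorem le_normal [Finite X] (T : Twin Z L D w h) {N : Subgroup X} (hN : N.Normal) (hne : N ≠ ⊥) : L ≤ N ∧ Z ≤ N := by
  have : Fact (Nat.Prime 3) := ⟨Nat.prime_three⟩
  have key : ∀ d ∈ D, d ≠ 1 → d ∈ N → L ≤ N ∧ Z ≤ N := by
    intro d hd hd1 hdN
    have h1 : L ≤ N := T.L_le (fun l _ n hn => hN.conj_mem n hn l) (T.DL hd) hdN hd1
    refine ⟨h1, fun z hz => ?_⟩
    have h2 : w * z * w⁻¹ ∈ N := h1 (T.DL ((T.wZ z).1 hz))
    have h3 := hN.conj_mem _ h2 w⁻¹
    have h4 : w⁻¹ * (w * z * w⁻¹) * w⁻¹⁻¹ = z := by group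
    rwa [h4] at h3
  obtain ⟨A, hA3, hAi, hA⟩ := T.syl
  have hdvd : 3 ∣ Nat.card N := by
    by_contra hcon
    exact hne (T.eq_bot hN ((Nat.Prime.coprime_iff_not_dvd Nat.prime_three).2 hcon))
  -- `A ∩ N ≠ 1`
  obtain ⟨x, hx⟩ := exists_prime_orderOf_dvd_card' 3 hdvd
  have hx3 : (x : X) ^ 3 = 1 := by
    have := pow_orderOf_eq_one x
    rw [hx] at this
    simpa only [_root_.SubmonoidClass.coe_pow, _root_.OneMemClass.coe_one] using congrArg Subtype.val this
  have hx1 : (x : X) ≠ 1 := by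
    intro h1
    have h2 : x = 1 := Subtype.ext h1
    rw [h2, orderOf_one] at hx
    norm_num at hx
  have hT : IsPGroup 3 (zpowers (x : X)) := by
    refine isPGroup_of_pow fun y hy => ?_
    obtain ⟨k, rfl⟩ := mem_zpowers_iff.1 hy
    rw [← zpow_natCast, ← zpow_mul, mul_comm, zpow_mul, zpow_natCast, hx3, one_zpow]
  obtain ⟨g, -, hg⟩ := exists_conj_le (C := ⊤) hA3 (by rwa [relIndex_top_right]) le_top hT
  have hg1 := hg x (mem_zpowers _)
  have hg2 : g * (x : X) * g⁻¹ ∈ N := hN.conj_mem _ x.2 g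
  have hg3 : g * (x : X) * g⁻¹ ≠ 1 := by
    intro h1
    apply hx1
    calc (x : X) = g⁻¹ * (g * x * g⁻¹) * g := by group
      _ = 1 := by rw [h1]; group
  obtain ⟨z, hz, d, hd, hzd⟩ := (hA _).1 hg1
  by_cases hd1 : d = 1
  · subst hd1
    rw [mul_one] at hzd
    have hz1 : z ≠ 1 := by rw [← hzd]; exact hg3
    have h1 : w * z * w⁻¹ ∈ N := hN.conj_mem _ (by rw [← hzd]; exact hg2) w
    refine key _ ((T.wZ z).1 hz) ?_ h1
    intro h2
    apply hz1
    calc z = w⁻¹ * (w * z * w⁻¹) * w := by group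
      _ = 1 := by rw [h2]; group
  · obtain ⟨h1, h2⟩ := T.hD d hd hd1
    refine key _ h1 h2 ?_
    have h3 : h * d * h⁻¹ * d⁻¹ = h * (z * d) * h⁻¹ * (z * d)⁻¹ := by
      have h4 := T.comm z hz h T.hL
      calc h * d * h⁻¹ * d⁻¹ = h * (z⁻¹ * (z * d)) * h⁻¹ * d⁻¹ := by group
        _ = (h * z⁻¹) * (z * d) * h⁻¹ * d⁻¹ := by group
        _ = (z⁻¹ * h) * (z * d) * h⁻¹ * d⁻¹ := by
          have h5 : h * z⁻¹ = z⁻¹ * h := by rw [eq_inv_mul_iff_mul_eq, ← mul_assoc, h4]; group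
          rw [h5]
        _ = z⁻¹ * (h * (z * d) * h⁻¹ * d⁻¹) := by group
        _ = z⁻¹ * (h * (d * z) * h⁻¹ * d⁻¹) := by rw [T.comm z hz d (T.DL hd)]
        _ = z⁻¹ * (h * d * (z * h⁻¹) * d⁻¹) := by group
        _ = z⁻¹ * (h * d * (h⁻¹ * z) * d⁻¹) := by
          have h5 : z * h⁻¹ = h⁻¹ * z := T.comm z hz _ (L.inv_mem T.hL)
          rw [h5]
        _ = z⁻¹ * (h * d * h⁻¹ * (z * d⁻¹)) := by group
        _ = z⁻¹ * (h * d * h⁻¹ * (d⁻¹ * z)) := by
          have h5 : z * d⁻¹ = d⁻¹ * z := T.comm z hz _ (L.inv_mem (T.DL hd))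
          rw [h5]
        _ = z⁻¹ * (h * d * h⁻¹ * d⁻¹ * z) := by group
        _ = z⁻¹ * (z * (h * d * h⁻¹ * d⁻¹)) := by
          rw [T.comm z hz (h * d * h⁻¹ * d⁻¹) (T.DL h1)]
        _ = h * d * h⁻¹ * d⁻¹ := by group
        _ = z * (h * d * h⁻¹ * d⁻¹) * z⁻¹ := by rw [T.comm z hz (h * d * h⁻¹ * d⁻¹) (T.DL h1)]; group
        _ = (z * h) * d * h⁻¹ * (d⁻¹ * z⁻¹) := by group
        _ = (h * z) * d * h⁻¹ * (z * d)⁻¹ := by rw [h4]; group
        _ = h * (z * d) * h⁻¹ * (z * d)⁻¹ := by group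
    rw [h3, ← hzd]
    exact N.mul_mem (hN.conj_mem _ hg2 h) (N.inv_mem hg2)

theorem main [Finite X] (T : Twin Z L D w h) (hS : Star.{u}) :
    (∀ a ∈ L, ∀ b ∈ L, a * (w * b * w⁻¹) = (w * b * w⁻¹) * a) ∧
    ∃ N : Subgroup X, N.Normal ∧ ∀ x, x ∈ N ↔ ∃ a ∈ L, ∃ b ∈ L, x = a * (w * b * w⁻¹) := by
  have : Fact (Nat.Prime 3) := ⟨Nat.prime_three⟩
  obtain ⟨z₀, hz₀, hz₀1⟩ := T.exists_ne
  have : Nontrivial X := ⟨⟨z₀, 1, hz₀1⟩⟩
  obtain ⟨N, hN, hNb, hmin⟩ := Cfsg.Agent.Lib.SubnormalJoin.exists_minimal_normal X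
  obtain ⟨hLN, hZN⟩ := T.le_normal hN hNb
  obtain ⟨a₀, ha₀, b₀, hb₀, hab₀⟩ := T.nc
  obtain ⟨m, TT, e, C⟩ := Cfsg.Agent.H794.SocleCount.exists_coord N hmin
    (fun hcon => hab₀ (hcon a₀ (hLN ha₀) b₀ (hLN hb₀)))
  -- factors centralising `Z`
  have lemA : ∀ i, (∀ z ∈ Z, ∀ a ∈ TT i, a * z = z * a) → TT i = L := by
    intro i hi
    have hsi := C.simple i
    obtain ⟨a, b, hab⟩ := C.nc i
    have hcen : ∀ x ∈ TT i, ∃ z' ∈ Z, ∃ l ∈ L, x = z' * l := fun x hx => T.cent z₀ hz₀ hz₀1 x (hi z₀ hz₀ x hx)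
    -- elements of `Z L` normalise `L`
    have hnL : ∀ x ∈ TT i, ∀ l ∈ L, x * l * x⁻¹ ∈ L := by
      intro x hx l hl
      obtain ⟨z', hz', l', hl', rfl⟩ := hcen x hx
      have h1 : z' * l' * l * (z' * l')⁻¹ = l' * l * l'⁻¹ := by
        have h2 := T.comm z' hz' (l' * l * l'⁻¹) (L.mul_mem (L.mul_mem hl' hl) (L.inv_mem hl'))
        calc z' * l' * l * (z' * l')⁻¹ = z' * (l' * l * l'⁻¹) * z'⁻¹ := by group
          _ = l' * l * l'⁻¹ := by rw [h2]; group
      rw [h1]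
      exact L.mul_mem (L.mul_mem hl' hl) (L.inv_mem hl')
    -- the commutator of `a` and `b` is in `L`
    have hc : (a : X) * b * (a : X)⁻¹ * (b : X)⁻¹ ∈ L := by
      obtain ⟨z₁, hz₁, l₁, hl₁, e₁⟩ := hcen a a.2
      obtain ⟨z₂, hz₂, l₂, hl₂, e₂⟩ := hcen b b.2
      have h1 : (a : X) * b * (a : X)⁻¹ * (b : X)⁻¹ = l₁ * l₂ * l₁⁻¹ * l₂⁻¹ := by
        rw [e₁, e₂]
        have k1 := T.comm z₁ hz₁ l₁ hl₁
        have k2 := T.comm z₂ hz₂ l₂ hl₂
        have k3 := T.comm z₁ hz₁ l₂ hl₂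
        have k4 := T.comm z₂ hz₂ l₁ hl₁
        have k5 := T.Zab z₁ hz₁ z₂ hz₂
        have k6 := T.comm z₁ hz₁ (l₁ * l₂ * l₁⁻¹) (L.mul_mem (L.mul_mem hl₁ hl₂) (L.inv_mem hl₁))
        have k7 := T.comm z₂ hz₂ (l₁ * l₂ * l₁⁻¹) (L.mul_mem (L.mul_mem hl₁ hl₂) (L.inv_mem hl₁))
        calc z₁ * l₁ * (z₂ * l₂) * (z₁ * l₁)⁻¹ * (z₂ * l₂)⁻¹
            = z₁ * (l₁ * z₂) * l₂ * l₁⁻¹ * z₁⁻¹ * l₂⁻¹ * z₂⁻¹ := by group
          _ = z₁ * (z₂ * l₁) * l₂ * l₁⁻¹ * z₁⁻¹ * l₂⁻¹ * z₂⁻¹ := by rw [k4]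
          _ = z₁ * (z₂ * (l₁ * l₂ * l₁⁻¹)) * z₁⁻¹ * l₂⁻¹ * z₂⁻¹ := by group
          _ = z₁ * ((l₁ * l₂ * l₁⁻¹) * z₂) * z₁⁻¹ * l₂⁻¹ * z₂⁻¹ := by rw [k7]
          _ = (z₁ * (l₁ * l₂ * l₁⁻¹)) * z₂ * z₁⁻¹ * l₂⁻¹ * z₂⁻¹ := by group
          _ = ((l₁ * l₂ * l₁⁻¹) * z₁) * z₂ * z₁⁻¹ * l₂⁻¹ * z₂⁻¹ := by rw [k6]
          _ = (l₁ * l₂ * l₁⁻¹) * (z₁ * z₂) * z₁⁻¹ * l₂⁻¹ * z₂⁻¹ := by group
          _ = (l₁ * l₂ * l₁⁻¹) * (z₂ * z₁) * z₁⁻¹ * l₂⁻¹ * z₂⁻¹ := by rw [k5]
          _ = (l₁ * l₂ * l₁⁻¹) * (z₂ * l₂⁻¹) * z₂⁻¹ := by group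
          _ = (l₁ * l₂ * l₁⁻¹) * (l₂⁻¹ * z₂) * z₂⁻¹ := by rw [T.comm z₂ hz₂ l₂⁻¹ (L.inv_mem hl₂)]
          _ = l₁ * l₂ * l₁⁻¹ * l₂⁻¹ := by group
      rw [h1]
      exact L.mul_mem (L.mul_mem (L.mul_mem hl₁ hl₂) (L.inv_mem hl₁)) (L.inv_mem hl₂)
    have hc1 : (a : X) * b * (a : X)⁻¹ * (b : X)⁻¹ ≠ 1 := by
      intro h1
      apply hab
      rw [mul_inv_eq_one, mul_inv_eq_iff_eq_mul] at h1
      exact Subtype.ext h1
    have hcT : (a : X) * b * (a : X)⁻¹ * (b : X)⁻¹ ∈ TT i :=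
      (TT i).mul_mem ((TT i).mul_mem ((TT i).mul_mem a.2 b.2) ((TT i).inv_mem a.2)) ((TT i).inv_mem b.2)
    apply le_antisymm
    · have h1 : (L.subgroupOf (TT i)).Normal := ⟨fun n hn g => by
        rw [mem_subgroupOf] at hn ⊢
        exact hnL g g.2 _ hn⟩
      rcases h1.eq_bot_or_eq_top with h2 | h2
      · exfalso
        have h3 : (⟨_, hcT⟩ : TT i) ∈ L.subgroupOf (TT i) := by rw [mem_subgroupOf]; exact hc
        rw [h2, mem_bot] at h3
        exact hc1 (congrArg Subtype.val h3)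
      · rwa [subgroupOf_eq_top] at h2
    · exact T.L_le (fun l hl n hn => Coord.conj_mem C (hLN hl) hn) hc hcT hc1
  -- `L` is in a factor
  have lemB : ∃ i, L ≤ TT i := by
    have h0 : a₀ * b₀ * a₀⁻¹ * b₀⁻¹ ≠ 1 := by
      intro h1
      apply hab₀
      rw [mul_inv_eq_one, mul_inv_eq_iff_eq_mul] at h1
      exact h1
    have h1 : ∃ i, (e ⟨a₀, hLN ha₀⟩ i) * (e ⟨b₀, hLN hb₀⟩ i) ≠ (e ⟨b₀, hLN hb₀⟩ i) * (e ⟨a₀, hLN ha₀⟩ i) := by
      by_contra hcon
      push Not at hcon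
      apply hab₀
      have h2 : e (⟨a₀, hLN ha₀⟩ * ⟨b₀, hLN hb₀⟩) = e (⟨b₀, hLN hb₀⟩ * ⟨a₀, hLN ha₀⟩) := by
        rw [map_mul, map_mul]
        funext i
        exact hcon i
      exact congrArg Subtype.val (e.injective h2)
    obtain ⟨i, hi⟩ := h1
    refine ⟨i, ?_⟩
    set c : X := ((e ⟨a₀, hLN ha₀⟩ i : TT i) : X) with hc
    have hcT : c ∈ TT i := (e ⟨a₀, hLN ha₀⟩ i).2
    have hcz : c * z₀ = z₀ * c := Coord.coord_comm C (hLN ha₀) (hZN hz₀) (T.comm z₀ hz₀ a₀ ha₀).symm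
    obtain ⟨z', hz', l₁, hl₁, e₁⟩ := T.cent z₀ hz₀ hz₀1 c hcz
    -- `[c, b₀]`
    have h2 : c * b₀ * c⁻¹ * b₀⁻¹ = l₁ * b₀ * l₁⁻¹ * b₀⁻¹ := by
      rw [e₁]
      have k := T.comm z' hz' (l₁ * b₀ * l₁⁻¹) (L.mul_mem (L.mul_mem hl₁ hb₀) (L.inv_mem hl₁))
      calc z' * l₁ * b₀ * (z' * l₁)⁻¹ * b₀⁻¹ = z' * (l₁ * b₀ * l₁⁻¹) * z'⁻¹ * b₀⁻¹ := by group
        _ = l₁ * b₀ * l₁⁻¹ * b₀⁻¹ := by rw [k]; group
    have h3 : c * b₀ * c⁻¹ * b₀⁻¹ ∈ L := by
      rw [h2]
      exact L.mul_mem (L.mul_mem (L.mul_mem hl₁ hb₀) (L.inv_mem hl₁)) (L.inv_mem hb₀)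
    have h4 : b₀ * c⁻¹ * b₀⁻¹ ∈ TT i := Coord.conj_mem C (hLN hb₀) ((TT i).inv_mem hcT)
    have h5 : c * b₀ * c⁻¹ * b₀⁻¹ ∈ TT i := by
      have : c * b₀ * c⁻¹ * b₀⁻¹ = c * (b₀ * c⁻¹ * b₀⁻¹) := by group
      rw [this]
      exact (TT i).mul_mem hcT h4
    refine T.L_le (fun l hl n hn => Coord.conj_mem C (hLN hl) hn) h3 h5 ?_
    intro h6
    apply hi
    have h7 : b₀ * c * b₀⁻¹ = c := by
      rw [mul_inv_eq_one, mul_inv_eq_iff_eq_mul] at h6
      rw [← h6]; group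
    have h8 := Coord.conj_eq C (hLN hb₀) hcT
    rw [h7] at h8
    have h9 : (⟨c, hcT⟩ : TT i) = e ⟨a₀, hLN ha₀⟩ i := rfl
    rw [h9] at h8
    have h10 := Subtype.ext h8
    rw [eq_mul_inv_iff_mul_eq] at h10
    exact h10
  obtain ⟨i, hi⟩ := lemB
  obtain ⟨j, hj⟩ := C.conj w i
  have hLj : ∀ b ∈ L, w * b * w⁻¹ ∈ TT j := by
    intro b hb
    rw [hj]
    exact ⟨b, hi hb, rfl⟩
  have hZj : Z ≤ TT j := by
    intro z hz
    have h1 : w⁻¹ * z * w ∈ D := by
      rw [T.wD]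
      have : w * (w⁻¹ * z * w) * w⁻¹ = z := by group
      rwa [this]
    have h2 := hLj _ (T.DL h1)
    have : w * (w⁻¹ * z * w) * w⁻¹ = z := by group
    rwa [this] at h2
  have hother : ∀ k, k ≠ j → TT k = L := fun k hk =>
    lemA k fun z hz a ha => Coord.comm C hk ha (hZj hz)
  by_cases hij : i = j
  · -- `N = TT i` is simple
    exfalso
    subst hij
    have honly : ∀ k, k = i := by
      intro k
      by_contra hk
      have h1 := hother k hk
      exact hk (C.disj (x := a₀) (by rw [h1]; exact ha₀) (hi ha₀) (by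
        rintro rfl
        apply hab₀
        simp))
    have hsi := C.simple i
    obtain ⟨A, hA3, hAi, hA⟩ := T.syl
    have hAT : A ≤ TT i := by
      intro a ha
      obtain ⟨z, hz, d, hd, rfl⟩ := (hA a).1 ha
      exact (TT i).mul_mem (hZj hz) (hi (T.DL hd))
    have hAc : ∀ a ∈ A, a ^ 3 = 1 ∧ ∀ b ∈ A, a * b = b * a := by
      intro a ha
      obtain ⟨z, hz, d, hd, rfl⟩ := (hA a).1 ha
      constructor
      · rw [(show Commute z d from T.comm z hz d (T.DL hd)).mul_pow, T.Z3 z hz, T.D3 d hd, one_mul]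
      · intro b hb
        obtain ⟨z', hz', d', hd', rfl⟩ := (hA b).1 hb
        have k1 := T.comm z hz d' (T.DL hd')
        have k2 := T.comm z' hz' d (T.DL hd)
        calc z * d * (z' * d') = z * (d * z') * d' := by group
          _ = z * (z' * d) * d' := by rw [k2]
          _ = (z * z') * (d * d') := by group
          _ = (z' * z) * (d' * d) := by rw [T.Zab z hz z' hz', T.Dab d hd d' hd']
          _ = z' * (z * d') * d := by group
          _ = z' * (d' * z) * d := by rw [k1]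
          _ = z' * d' * (z * d) := by group
    have hcard : 81 < Nat.card A := by
      have hZc : 27 ≤ Nat.card Z := Nat.le_of_dvd Nat.card_pos T.cardZ
      have hDc : Nat.card D = Nat.card Z := by
        refine Nat.card_congr ⟨fun x => ⟨w * x * w⁻¹, (T.wD x).1 x.2⟩, fun y => ⟨w⁻¹ * y * w, ?_⟩, ?_, ?_⟩
        · rw [T.wD]
          have : w * (w⁻¹ * (y : X) * w) * w⁻¹ = y := by group
          rw [this]; exact y.2
        · intro x
          apply Subtype.ext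
          show w⁻¹ * (w * (x : X) * w⁻¹) * w = x
          group
        · intro x
          apply Subtype.ext
          show w * (w⁻¹ * (x : X) * w) * w⁻¹ = x
          group
      let f : Z × D → A := fun x => ⟨x.1 * x.2, (hA _).2 ⟨x.1, x.1.2, x.2, x.2.2, rfl⟩⟩
      have hf : Function.Injective f := by
        rintro ⟨x, y⟩ ⟨x', y'⟩ hxy
        have e1 : (x : X) * y = x' * y' := congrArg Subtype.val hxy
        have e2 : (x' : X)⁻¹ * x = y' * (y : X)⁻¹ := by
          rw [inv_mul_eq_iff_eq_mul, ← mul_assoc, ← e1]; group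
        have e3 : (x' : X)⁻¹ * x = 1 :=
          T.inf_eq (Z.mul_mem (Z.inv_mem x'.2) x.2) (by rw [e2]; exact L.mul_mem (T.DL y'.2) (L.inv_mem (T.DL y.2)))
        have e4 : x = x' := Subtype.ext (inv_mul_eq_one.1 e3).symm
        rw [e3] at e2
        have e5 : y = y' := Subtype.ext (mul_inv_eq_one.1 e2.symm).symm
        rw [e4, e5]
      have h1 := Nat.card_le_card_of_injective f hf
      rw [Nat.card_prod, hDc] at h1
      have h2 : 27 * 27 ≤ Nat.card Z * Nat.card Z := Nat.mul_le_mul hZc hZc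
      omega
    have key := hS (TT i) ?_ ?_ ⟨z₀, hZj hz₀⟩ ?_ ⟨a₀, hi ha₀⟩ ⟨b₀, hi hb₀⟩ ?_ ?_
    · exact hab₀ (congrArg Subtype.val key)
    · intro S x hx
      obtain ⟨g, -, hg⟩ := exists_conj_le (C := ⊤) hA3 (by rwa [relIndex_top_right]) le_top
        (S.isPGroup'.map (TT i).subtype)
      have hg' : ∀ y ∈ (S : Subgroup (TT i)), g * (y : X) * g⁻¹ ∈ A := fun y hy => hg y ⟨y, hy, rfl⟩
      have h1 := hAc _ (hg' x hx)
      constructor
      · apply Subtype.ext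
        have h2 := h1.1
        rw [conj_pow] at h2
        show (x : X) ^ 3 = 1
        calc (x : X) ^ 3 = g⁻¹ * (g * (x : X) ^ 3 * g⁻¹) * g := by group
          _ = 1 := by rw [h2]; group
      · intro y hy
        apply Subtype.ext
        have h2 := h1.2 _ (hg' y hy)
        show (x : X) * y = y * x
        calc (x : X) * y = g⁻¹ * (g * x * g⁻¹ * (g * y * g⁻¹)) * g := by group
          _ = g⁻¹ * (g * y * g⁻¹ * (g * x * g⁻¹)) * g := by rw [h2]
          _ = y * x := by group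
    · intro S
      have hAT3 : IsPGroup 3 (A.subgroupOf (TT i)) := hA3.comap_of_injective _ (TT i).subtype_injective
      obtain ⟨S', hS'⟩ := hAT3.exists_le_sylow
      have h1 : Nat.card S = Nat.card S' := Nat.card_congr (Sylow.equiv S S').toEquiv
      have h2 : Nat.card (A.subgroupOf (TT i)) = Nat.card A := Nat.card_congr (subgroupOfEquivOfLe hAT).toEquiv
      have h3 : Nat.card (A.subgroupOf (TT i)) ≤ Nat.card S' := Subgroup.card_le_of_le hS'
      rw [h1]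
      omega
    · rw [Subgroup.orderOf_mk]
      exact orderOf_eq_prime (T.Z3 z₀ hz₀) hz₀1
    · exact Subtype.ext (T.comm z₀ hz₀ a₀ ha₀).symm
    · exact Subtype.ext (T.comm z₀ hz₀ b₀ hb₀).symm
  · have hTi : TT i = L := hother i hij
    have hkij : ∀ k, k = i ∨ k = j := by
      intro k
      by_contra hcon
      push Not at hcon
      exact hcon.1 (C.inj ((hother k hcon.2).trans hTi.symm))
    have hTj : ∀ x ∈ TT j, ∃ b ∈ L, x = w * b * w⁻¹ := by
      intro x hx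
      rw [hj, hTi] at hx
      obtain ⟨b, hb, rfl⟩ := hx
      exact ⟨b, hb, rfl⟩
    refine ⟨fun a ha b hb => Coord.comm C hij (hi ha) (hLj b hb), N, hN, fun x => ⟨fun hx => ?_, ?_⟩⟩
    · have h1 : (⟨x, hx⟩ : N) = e.symm (Pi.mulSingle i (e ⟨x, hx⟩ i)) * e.symm (Pi.mulSingle j (e ⟨x, hx⟩ j)) := by
        apply e.injective
        rw [map_mul, MulEquiv.apply_symm_apply, MulEquiv.apply_symm_apply]
        funext k
        rw [Pi.mul_apply]
        rcases hkij k with rfl | rfl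
        · rw [Pi.mulSingle_eq_same, Pi.mulSingle_eq_of_ne hij, mul_one]
        · rw [Pi.mulSingle_eq_same, Pi.mulSingle_eq_of_ne (Ne.symm hij), one_mul]
      have h2 := congrArg Subtype.val h1
      rw [Subgroup.coe_mul, C.single, C.single] at h2
      obtain ⟨b, hb, hb'⟩ := hTj _ (e ⟨x, hx⟩ j).2
      refine ⟨_, by rw [← hTi]; exact (e ⟨x, hx⟩ i).2, b, hb, ?_⟩
      rw [← hb']
      exact h2
    · rintro ⟨a, ha, b, hb, rfl⟩
      exact N.mul_mem (hLN ha) (C.le j (hLj b hb))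

end Twin

end Cfsg.Agent.H334.Sp4
end

-- part: H334/Sp4/Cent
section
/-!
# The centralizer of the involution `t`
-/

set_option autoImplicit false
set_option linter.unusedSectionVars false
set_option linter.unusedVariables false
set_option linter.unusedSimpArgs false

universe u v

open Subgroup

namespace Cfsg.Agent.H334.Sp4

open Cfsg.Agent.H339 Cfsg.Agent.H334.Symp Cfsg.Agent.H334.Symp.El

namespace Sw

variable {G : Type u} {F : Type v} [Group G] [Field F] {f : El F →* G}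

theorem mem_Z (S : Sw f) {v : F} : f (q v 0 0) ∈ (Zs F).map f := ⟨_, mem_Zs'.2 ⟨v, rfl⟩, rfl⟩

theorem mem_X (S : Sw f) {s : F} : f (emb F (up s)) ∈ (Xs F).map f := ⟨_, mem_Xs'.2 ⟨s, rfl⟩, rfl⟩

theorem of_mem_Z (S : Sw f) {x : G} (hx : x ∈ (Zs F).map f) : ∃ v, x = f (q v 0 0) := by
  obtain ⟨k, hk, rfl⟩ := hx
  obtain ⟨v, rfl⟩ := mem_Zs'.1 hk
  exact ⟨v, rfl⟩

theorem of_mem_X (S : Sw f) {x : G} (hx : x ∈ (Xs F).map f) : ∃ s, x = f (emb F (up s)) := by
  obtain ⟨k, hk, rfl⟩ := hx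
  obtain ⟨v, rfl⟩ := mem_Xs'.1 hk
  exact ⟨v, rfl⟩

theorem inf_eq (S : Sw f) {x : G} (hz : x ∈ (Zs F).map f) (hx : x ∈ (Xs F).map f) : x = 1 := by
  obtain ⟨v, rfl⟩ := S.of_mem_Z hz
  obtain ⟨s, hs⟩ := S.of_mem_X hx
  have h1 := congrArg El.z (S.inj hs)
  have h2 : v = 0 := h1
  rw [h2, q_zero, map_one]

theorem comm_Z (S : Sw f) {z : G} (hz : z ∈ (Zs F).map f) (k : El F) : z * f k = f k * z := by
  obtain ⟨k', hk', rfl⟩ := hz
  rw [← map_mul, ← map_mul, comm_of_Zs hk' k]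

theorem cent_tz (S : Sw f) (h2F : (2 : F) ≠ 0) {z g : G} (hz : z ∈ (Zs F).map f) (hz1 : z ≠ 1)
    (hgt : g * f (ts F) = f (ts F) * g) (hgz : g * z = z * g) :
    ∃ z' ∈ (Zs F).map f, ∃ A, g = z' * f (emb F A) := by
  obtain ⟨v, rfl⟩ := S.of_mem_Z hz
  have hv : v ≠ 0 := by
    rintro rfl
    exact hz1 (by rw [q_zero, map_one])
  obtain ⟨k, rfl⟩ := S.cent v hv g hgz
  rw [← map_mul, ← map_mul] at hgt
  obtain ⟨h1, h2⟩ := (ts_comm_iff h2F).1 (S.inj hgt)
  refine ⟨_, S.mem_Z (v := k.z), k.A, ?_⟩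
  rw [← map_mul]
  congr 1
  ext1
  · simp only [q, _root_.Cfsg.Agent.H334.Symp.El.mul_z, _root_.Cfsg.Agent.H334.Symp.El.emb_z, _root_.add_zero, _root_.Fin.isValue, _root_.Matrix.SpecialLinearGroup.coe_one, _root_.ne_eq, _root_.one_ne_zero, _root_.not_false_eq_true, _root_.Matrix.one_apply_ne, _root_.Cfsg.Agent.H334.Symp.El.emb_x, _root_.MulZeroClass.mul_zero, _root_.Matrix.one_apply_eq, _root_.Cfsg.Agent.H334.Symp.El.emb_y, _root_.zero_ne_one, _root_.sub_self]
  · simp [q, h1]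
  · simp [q, h2]
  · simp [q]

theorem t_comm (S : Sw f) (h2F : (2 : F) ≠ 0) (A : Matrix.SpecialLinearGroup (Fin 2) F) :
    f (emb F A) * f (ts F) = f (ts F) * f (emb F A) := by
  rw [← map_mul, ← map_mul, (ts_comm_iff h2F).2 ⟨rfl, rfl⟩]

theorem tA (S : Sw f) (h2F : (2 : F) ≠ 0) {a : G} (ha : a ∈ (As F).map f) : a * f (ts F) = f (ts F) * a := by
  obtain ⟨k, hk, rfl⟩ := ha
  rw [← map_mul, ← map_mul, (ts_comm_iff h2F).2 ⟨hk.1, hk.2.1⟩]

theorem dec_A (S : Sw f) {a : G} (ha : a ∈ (As F).map f) : ∃ z ∈ (Zs F).map f, ∃ x ∈ (Xs F).map f, a = z * x := by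
  obtain ⟨k, hk, rfl⟩ := ha
  obtain ⟨v, s, rfl⟩ := mem_As'.1 hk
  exact ⟨_, S.mem_Z, _, S.mem_X, map_mul _ _ _⟩

theorem ZA (f : El F →* G) : (Zs F).map f ≤ (As F).map f := map_mono Zs_le_As
theorem XA (f : El F →* G) : (Xs F).map f ≤ (As F).map f := map_mono Xs_le_As

/-- 3-elements of `C_G(t)` normalising `A` are in `A` -/
theorem mem_A (S : Sw f) [Finite F] (h2F : (2 : F) ≠ 0) (h3 : (3 : F) = 0) {x : G} (hxt : x * f (ts F) = f (ts F) * x)
    (hxA : ∀ a ∈ (As F).map f, x * a * x⁻¹ ∈ (As F).map f) {n : ℕ} (hx : x ^ 3 ^ n = 1) : x ∈ (As F).map f := by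
  have h3p : Fact (Nat.Prime 3) := ⟨Nat.prime_three⟩
  obtain ⟨w, hwt, hwZ, hwX⟩ := S.swap
  have hwA : ∀ a ∈ (As F).map f, w * a * w⁻¹ ∈ (As F).map f := by
    intro a ha
    obtain ⟨z, hz, y, hy, rfl⟩ := S.dec_A ha
    have : w * (z * y) * w⁻¹ = (w * z * w⁻¹) * (w * y * w⁻¹) := by group
    rw [this]
    exact ((As F).map f).mul_mem (XA f ((hwZ z).1 hz)) (ZA f ((hwX y).1 hy))
  have hZ1 : f (q 1 0 0) ∈ (Zs F).map f := S.mem_Z
  have hZ1' : f (q 1 0 0) ≠ 1 := by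
    intro h
    rw [← map_one f] at h
    exact one_ne_zero (congrArg El.z (S.inj h))
  have hfix : ∀ y ∈ (Zs F).map f, x * y * x⁻¹ ∈ (Zs F).map f := by
    rcases S.nm x hxt hxA with h | h
    · exact h
    · exfalso
      -- `x` interchanges `Z` and `X`
      have hX : ∀ y ∈ (Xs F).map f, x * y * x⁻¹ ∈ (Zs F).map f := by
        have h1 : ∀ a ∈ (As F).map f, (x * w) * a * (x * w)⁻¹ ∈ (As F).map f := by
          intro a ha
          have : (x * w) * a * (x * w)⁻¹ = x * (w * a * w⁻¹) * x⁻¹ := by group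
          rw [this]
          exact hxA _ (hwA a ha)
        have h2 : (x * w) * f (ts F) = f (ts F) * (x * w) := by
          rw [mul_assoc, hwt, ← mul_assoc, hxt, mul_assoc]
        rcases S.nm (x * w) h2 h1 with h3 | h3
        · intro y hy
          have h4 : w⁻¹ * y * w ∈ (Zs F).map f := by
            rw [hwZ]
            have : w * (w⁻¹ * y * w) * w⁻¹ = y := by group
            rwa [this]
          have h5 := h3 _ h4
          have : x * w * (w⁻¹ * y * w) * (x * w)⁻¹ = x * y * x⁻¹ := by group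
          rwa [this] at h5
        · exfalso
          -- `x Z = X` and `x X ≤ X`: then `Z = X`
          have h4 := h3 _ hZ1
          have h5 := h _ hZ1
          -- `x (w z w⁻¹) x⁻¹ ∈ X`, all of `x Z x⁻¹ = X`
          have h6 : ∀ y ∈ (Xs F).map f, ∃ z ∈ (Zs F).map f, x * z * x⁻¹ = y := by
            -- finiteness
            have hinj : Function.Injective (fun z : (Zs F).map f => (⟨x * z * x⁻¹, h z z.2⟩ : (Xs F).map f)) := by
              intro a b hab
              have := congrArg Subtype.val hab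
              simp only [mul_left_inj, mul_right_inj] at this
              exact Subtype.ext this
            have hfin : Finite ((Xs F).map f) := by
              have : Finite (El F) := Finite.of_equiv _ (equivEl (F := F)).symm
              have : Finite ((Xs F).map f) := Set.Finite.to_subtype ((Set.toFinite (Xs F : Set (El F))).image f)
              exact this
            have hcard : Nat.card ((Zs F).map f) = Nat.card ((Xs F).map f) := by
              refine Nat.card_congr ⟨fun y => ⟨w * y * w⁻¹, (hwZ y).1 y.2⟩, fun y => ⟨w⁻¹ * y * w, ?_⟩, ?_, ?_⟩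
              · rw [hwZ]
                have : w * (w⁻¹ * (y : G) * w) * w⁻¹ = y := by group
                rw [this]; exact y.2
              · intro y
                apply Subtype.ext
                show w⁻¹ * (w * (y : G) * w⁻¹) * w = y
                group
              · intro y
                apply Subtype.ext
                show w * (w⁻¹ * (y : G) * w) * w⁻¹ = y
                group
            have hfin' : Finite ((Zs F).map f) := Finite.of_injective _ hinj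
            have hbij := (Nat.bijective_iff_injective_and_card _).2 ⟨hinj, hcard⟩
            intro y hy
            obtain ⟨z, hz⟩ := hbij.2 ⟨y, hy⟩
            exact ⟨z, z.2, congrArg Subtype.val hz⟩
          obtain ⟨z, hz, hz'⟩ := h6 _ h4
          have h7 : z = w * f (q 1 0 0) * w⁻¹ := by
            have : x * w * f (q 1 0 0) * (x * w)⁻¹ = x * (w * f (q 1 0 0) * w⁻¹) * x⁻¹ := by group
            rw [this] at hz'
            simpa only [mul_left_inj, mul_right_inj] using hz'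
          have h8 := S.inf_eq hz (by rw [h7]; exact (hwZ _).1 hZ1)
          rw [h8] at h7
          apply hZ1'
          calc f (q 1 0 0) = w⁻¹ * (w * f (q 1 0 0) * w⁻¹) * w := by group
            _ = 1 := by rw [← h7]; group
      have hpow : ∀ k : ℕ, (∀ y ∈ (Zs F).map f, x ^ (2 * k) * y * (x ^ (2 * k))⁻¹ ∈ (Zs F).map f) ∧
          (∀ y ∈ (Zs F).map f, x ^ (2 * k + 1) * y * (x ^ (2 * k + 1))⁻¹ ∈ (Xs F).map f) := by
        intro k
        induction k with
        | zero =>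
          refine ⟨fun y hy => by simpa only [_root_.MulZeroClass.mul_zero, _root_.pow_zero, _root_.one_mul, _root_.inv_one, _root_.mul_one, _root_.Subgroup.mem_map] using hy, fun y hy => ?_⟩
          have := h y hy
          simpa only [_root_.MulZeroClass.mul_zero, _root_.zero_add, _root_.pow_one, _root_.Subgroup.mem_map] using this
        | succ k ih =>
          have h1 : ∀ y ∈ (Zs F).map f, x ^ (2 * (k + 1)) * y * (x ^ (2 * (k + 1)))⁻¹ ∈ (Zs F).map f := by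
            intro y hy
            have h2 := hX _ (ih.2 y hy)
            have : x * (x ^ (2 * k + 1) * y * (x ^ (2 * k + 1))⁻¹) * x⁻¹ =
                x ^ (2 * (k + 1)) * y * (x ^ (2 * (k + 1)))⁻¹ := by
              have e : 2 * (k + 1) = (2 * k + 1) + 1 := by ring
              rw [e, pow_succ' x (2 * k + 1)]
              group
            rwa [this] at h2
          refine ⟨h1, fun y hy => ?_⟩
          have h2 := h _ (h1 y hy)
          have : x * (x ^ (2 * (k + 1)) * y * (x ^ (2 * (k + 1)))⁻¹) * x⁻¹ =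
              x ^ (2 * (k + 1) + 1) * y * (x ^ (2 * (k + 1) + 1))⁻¹ := by
            rw [pow_succ' x (2 * (k + 1))]
            group
          rwa [this] at h2
      have hodd : Odd (3 ^ n) := Odd.pow (by decide)
      obtain ⟨k, hk⟩ := hodd
      have h1 := (hpow k).2 _ hZ1
      rw [← hk, hx] at h1
      simp only [one_mul, inv_one, mul_one] at h1
      exact hZ1' (S.inf_eq hZ1 h1)
  -- `x` centralises an element of `Z`
  have hp : IsPGroup 3 (zpowers x) := by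
    intro y
    obtain ⟨k, hk⟩ := mem_zpowers_iff.1 y.2
    refine ⟨n, ?_⟩
    apply Subtype.ext
    show (y : G) ^ 3 ^ n = 1
    rw [← hk, ← zpow_natCast, ← zpow_mul, mul_comm, zpow_mul, zpow_natCast, hx, one_zpow]
  have hfinEl : Finite (El F) := Finite.of_equiv _ (equivEl (F := F)).symm
  have hZfin : Finite ((Zs F).map f) := Set.Finite.to_subtype ((Set.toFinite (Zs F : Set (El F))).image f)
  obtain ⟨z, hz, hz1, hzx⟩ : ∃ z ∈ (Zs F).map f, z ≠ 1 ∧ x * z = z * x := by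
    let act : MulAction (zpowers x) ((Zs F).map f) :=
      { smul := fun g z => ⟨g * z * (g : G)⁻¹, by
          have h1 : ∀ k : ℕ, ∀ y ∈ (Zs F).map f, x ^ k * y * (x ^ k)⁻¹ ∈ (Zs F).map f := by
            intro k
            induction k with
            | zero => intro y hy; simpa only [_root_.pow_zero, _root_.one_mul, _root_.inv_one, _root_.mul_one, _root_.Subgroup.mem_map] using hy
            | succ k ih =>
              intro y hy
              have h2 := hfix _ (ih y hy)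
              have : x * (x ^ k * y * (x ^ k)⁻¹) * x⁻¹ = x ^ (k + 1) * y * (x ^ (k + 1))⁻¹ := by
                rw [pow_succ' x k]; group
              rwa [this] at h2
          have hfo : IsOfFinOrder x := isOfFinOrder_iff_pow_eq_one.2 ⟨3 ^ n, by positivity, hx⟩
          obtain ⟨k, hk⟩ := (hfo.mem_powers_iff_mem_zpowers).2 g.2
          have hk' : x ^ k = g := hk
          rw [← hk']
          exact h1 k z z.2⟩
        one_smul := fun z => Subtype.ext (by change (1 : G) * z * (1 : G)⁻¹ = z; simp)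
        mul_smul := fun x y z => Subtype.ext (by
          change ((x : G) * y) * z * ((x : G) * y)⁻¹ = x * (y * z * (y : G)⁻¹) * (x : G)⁻¹
          group) }
    have h1 : (1 : (Zs F).map f) ∈ MulAction.fixedPoints (zpowers x) ((Zs F).map f) := by
      intro g
      apply Subtype.ext
      change (g : G) * 1 * (g : G)⁻¹ = 1
      simp
    have hdvd : 3 ∣ Nat.card ((Zs F).map f) := by
      have h2 : orderOf (⟨_, hZ1⟩ : (Zs F).map f) = 3 := by
        rw [Subgroup.orderOf_mk]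
        refine orderOf_eq_prime ?_ hZ1'
        rw [← map_pow, Qs_pow h3 (q_mem 1 0 0), map_one]
      rw [← h2]
      exact _root_.orderOf_dvd_natCard _
    obtain ⟨b, hb, hb1⟩ := hp.exists_fixed_point_of_prime_dvd_card_of_fixed_point ((Zs F).map f) hdvd h1
    refine ⟨b, b.2, fun h => hb1 (Subtype.ext h.symm), ?_⟩
    have h2 : x * b * x⁻¹ = b := congrArg Subtype.val (hb ⟨x, mem_zpowers x⟩)
    calc x * (b : G) = x * b * x⁻¹ * x := by group
      _ = b * x := by rw [h2]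
  obtain ⟨z', hz', A, rfl⟩ := S.cent_tz h2F hz hz1 hxt hzx
  obtain ⟨v, rfl⟩ := S.of_mem_Z hz'
  -- `A` is upper triangular
  obtain ⟨k, hk, hk'⟩ := hxA _ (XA f (S.mem_X (s := 1)))
  have hA10 : A.1 1 0 = 0 := by
    have h1 : f (q v 0 0) * f (emb F A) * f (emb F (up 1)) * (f (q v 0 0) * f (emb F A))⁻¹ =
        f (emb F (A * up 1 * A⁻¹)) := by
      have h2 := S.comm_Z hz' (emb F (A * up 1 * A⁻¹))
      calc f (q v 0 0) * f (emb F A) * f (emb F (up 1)) * (f (q v 0 0) * f (emb F A))⁻¹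
          = f (q v 0 0) * (f (emb F A) * f (emb F (up 1)) * (f (emb F A))⁻¹) * (f (q v 0 0))⁻¹ := by group
        _ = f (q v 0 0) * f (emb F (A * up 1 * A⁻¹)) * (f (q v 0 0))⁻¹ := by
          rw [map_mul (emb F), map_mul (emb F), map_mul f, map_mul f, map_inv (emb F), map_inv f]
        _ = _ := by rw [h2]; group
    rw [h1] at hk'
    obtain ⟨-, -, s, hs⟩ := hk
    have h2 := congrArg El.A (S.inj hk')
    rw [hs, emb_A] at h2
    have h3 := congrArg (fun B : Matrix.SpecialLinearGroup (Fin 2) F => B.1 1 0) h2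
    simp only [sl_mul, up00, up01, up10, up11, sl_inv00, sl_inv10] at h3
    have : A.1 1 0 * A.1 1 0 = 0 := by linear_combination h3
    exact mul_self_eq_zero.1 this
  have hdet := det_eq A
  rw [hA10, mul_zero, sub_zero] at hdet
  -- the diagonal entries are `1`
  have hApow : A ^ 3 ^ n = 1 := by
    have h1 : Commute (f (q v 0 0)) (f (emb F A)) := S.comm_Z hz' _
    rw [h1.mul_pow] at hx
    rw [← map_pow, ← map_pow, ← map_pow, ← map_mul] at hx
    rw [← map_one f] at hx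
    have h2 := congrArg El.A (S.inj hx)
    rw [mul_A, emb_A, one_A] at h2
    have h3 : ((q v 0 0 : El F) ^ 3 ^ n).A = 1 := by
      have : (mat F) ((q v 0 0 : El F) ^ 3 ^ n) = 1 := by
        rw [map_pow]
        show (1 : Matrix.SpecialLinearGroup (Fin 2) F) ^ 3 ^ n = 1
        rw [one_pow]
      exact this
    rw [h3, one_mul] at h2
    exact h2
  have hA00 : ∀ k : ℕ, (A ^ k).1 0 0 = A.1 0 0 ^ k ∧ (A ^ k).1 1 0 = 0 := by
    intro k
    induction k with
    | zero => simp [sl_one00, sl_one10]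
    | succ k ih =>
      rw [pow_succ A k, sl_mul, sl_mul, ih.1, ih.2, hA10]
      constructor
      · ring
      · ring
  have h00 : A.1 0 0 ^ 3 ^ n = 1 := by
    rw [← (hA00 _).1, hApow, sl_one00]
  have hchar : CharP F 3 := by
    have h1 : ringChar F ∣ 3 := (ringChar.spec F 3).1 (by exact_mod_cast h3)
    rcases (Nat.dvd_prime Nat.prime_three).1 h1 with h | h
    · exact absurd h (CharP.ringChar_ne_one)
    · exact ringChar.of_eq h
  have ha1 : A.1 0 0 = 1 := by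
    have h1 : (A.1 0 0 - 1) ^ 3 ^ n = 0 := by
      rw [sub_pow_char_pow, h00, one_pow, sub_self]
    have := (pow_eq_zero_iff (by positivity)).1 h1
    linear_combination this
  have hA : A = up (A.1 0 1) := by
    apply sl_ext
    · rw [up00, ha1]
    · rw [up01]
    · rw [up10, hA10]
    · rw [up11]
      rw [ha1, one_mul] at hdet
      exact hdet
  rw [hA]
  exact ((As F).map f).mul_mem (ZA f hz') (XA f S.mem_X)

end Sw

end Cfsg.Agent.H334.Sp4
end

-- part: H334/Sp4/Cent2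
section
/-!
# The centralizer of the involution `t`: `C_G(t) = (SL(2,q) ∘ SL(2,q)) ⟨w⟩`
-/

set_option autoImplicit false
set_option linter.unusedSectionVars false
set_option linter.unusedVariables false
set_option linter.unusedSimpArgs false

universe u v

open Subgroup

namespace Cfsg.Agent.H334.Sp4

open Cfsg.Agent.H339 Cfsg.Agent.H334.Symp Cfsg.Agent.H334.Symp.El

theorem sl_center {F : Type v} [Field F] {A : Matrix.SpecialLinearGroup (Fin 2) F}
    (hA : A ∈ center (Matrix.SpecialLinearGroup (Fin 2) F)) : A = 1 ∨ A = -1 := by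
  rw [mem_center_iff] at hA
  have h1 := hA (up 1)
  have h00 := congrArg (fun B : Matrix.SpecialLinearGroup (Fin 2) F => B.1 0 0) h1
  have h01 := congrArg (fun B : Matrix.SpecialLinearGroup (Fin 2) F => B.1 0 1) h1
  simp only [sl_mul, up00, up01, up10, up11] at h00 h01
  have h2 := hA (w0 F)
  have k00 := congrArg (fun B : Matrix.SpecialLinearGroup (Fin 2) F => B.1 0 0) h2
  have e00 : (w0 F).1 0 0 = 0 := rfl
  have e01 : (w0 F).1 0 1 = -1 := rfl
  have e10 : (w0 F).1 1 0 = 1 := rfl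
  have e11 : (w0 F).1 1 1 = 0 := rfl
  simp only [sl_mul, e00, e01, e10, e11] at k00
  have h10 : A.1 1 0 = 0 := by linear_combination h00
  have hd : A.1 0 0 = A.1 1 1 := by linear_combination -h01
  have h01' : A.1 0 1 = 0 := by linear_combination -k00 - h10
  have hdet := det_eq A
  rw [h10, ← hd, mul_zero, sub_zero] at hdet
  rcases mul_self_eq_one_iff.1 hdet with h | h
  · left
    apply sl_ext
    · rw [h, sl_one00]
    · rw [h01', sl_one01]
    · rw [h10, sl_one10]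
    · rw [← hd, h, sl_one11]
  · right
    apply sl_ext
    · rw [h, neg_one_apply, sl_one00]
    · rw [h01', neg_one_apply, sl_one01, neg_zero]
    · rw [h10, neg_one_apply, sl_one10, neg_zero]
    · rw [← hd, h, neg_one_apply, sl_one11]

theorem dg_up {F : Type v} [Field F] (r : Fˣ) (s : F) :
    dg r * up s * (dg r)⁻¹ = up ((r : F) * r * s) := by
  have := r.ne_zero
  apply sl_ext
  · simp only [sl_mul, dg00, dg01, dg10, dg11, up00, up01, up10, up11, sl_inv00, sl_inv01, sl_inv10, sl_inv11,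
      Units.val_inv_eq_inv_val]
    field_simp
    ring
  · simp only [sl_mul, dg00, dg01, dg10, dg11, up00, up01, up10, up11, sl_inv00, sl_inv01, sl_inv10, sl_inv11,
      Units.val_inv_eq_inv_val]
    ring
  · simp only [sl_mul, dg00, dg01, dg10, dg11, up00, up01, up10, up11, sl_inv00, sl_inv01, sl_inv10, sl_inv11,
      Units.val_inv_eq_inv_val]
    ring
  · simp only [sl_mul, dg00, dg01, dg10, dg11, up00, up01, up10, up11, sl_inv00, sl_inv01, sl_inv10, sl_inv11,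
      Units.val_inv_eq_inv_val]
    field_simp
    ring

namespace Sw

variable {G : Type u} {F : Type v} [Group G] [Field F] {f : El F →* G}

theorem t_ne (S : Sw f) (h2F : (2 : F) ≠ 0) : f (ts F) ≠ 1 := by
  intro h
  rw [← map_one f] at h
  have h1 := orderOf_ts h2F (F := F)
  rw [S.inj h, orderOf_one] at h1
  norm_num at h1

theorem t_sq (S : Sw f) : f (ts F) * f (ts F) = 1 := by
  rw [← map_mul, ts_sq, map_one]

/-- the quotient of `C_G(t)` by `⟨t⟩` -/
theorem exists_quot (S : Sw f) : ∃ (X : Type u) (_ : Group X) (π : ↥(centralizer ({f (ts F)} : Set G)) →* X),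
    Function.Surjective π ∧ ∀ y : ↥(centralizer ({f (ts F)} : Set G)), π y = 1 ↔ (y : G) = 1 ∨ (y : G) = f (ts F) := by
  have htt := S.t_sq
  let K : Subgroup ↥(centralizer ({f (ts F)} : Set G)) :=
    { carrier := {y | (y : G) = 1 ∨ (y : G) = f (ts F)}
      one_mem' := Or.inl rfl
      mul_mem' := by
        rintro a b ha hb
        show (a : G) * b = 1 ∨ (a : G) * b = f (ts F)
        rcases ha with ha | ha <;> rcases hb with hb | hb <;> rw [ha, hb]
        · left; simp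
        · right; simp
        · right; simp
        · left; exact htt
      inv_mem' := by
        intro a ha
        show ((a : G))⁻¹ = 1 ∨ ((a : G))⁻¹ = f (ts F)
        rcases ha with ha | ha <;> rw [ha]
        · left; simp
        · right; exact inv_eq_of_mul_eq_one_left htt }
  have hK : K.Normal := ⟨by
    intro n hn g
    show (g : G) * n * (g : G)⁻¹ = 1 ∨ (g : G) * n * (g : G)⁻¹ = f (ts F)
    have hg : (g : G) * f (ts F) = f (ts F) * g := mem_centralizer_singleton_iff.1 g.2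
    rcases hn with hn | hn <;> rw [hn]
    · left; group
    · right; rw [hg]; group⟩
  refine ⟨_, inferInstance, QuotientGroup.mk' K, QuotientGroup.mk'_surjective K, fun y => ?_⟩
  rw [QuotientGroup.mk'_apply, QuotientGroup.eq_one_iff]
  rfl

end Sw

/-- the context: `C_G(t)`, its quotient by `t`, and the swap -/
structure Ctx {G : Type u} {F : Type v} [Group G] [Field F] (f : El F →* G) (w : G) {X : Type u} [Group X]
    (π : ↥(centralizer ({f (ts F)} : Set G)) →* X) : Prop extends Sw f where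
  wt : w * f (ts F) = f (ts F) * w
  wZ : ∀ x, x ∈ (Zs F).map f ↔ w * x * w⁻¹ ∈ (Xs F).map f
  wX : ∀ x, x ∈ (Xs F).map f ↔ w * x * w⁻¹ ∈ (Zs F).map f
  surj : Function.Surjective π
  ker : ∀ y : ↥(centralizer ({f (ts F)} : Set G)), π y = 1 ↔ (y : G) = 1 ∨ (y : G) = f (ts F)
  two : (2 : F) ≠ 0
  three : (3 : F) = 0

namespace Ctx

variable {G : Type u} {F : Type v} [Group G] [Field F] {f : El F →* G} {w : G} {X : Type u} [Group X]
    {π : ↥(centralizer ({f (ts F)} : Set G)) →* X}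

theorem sw (C : Ctx f w π) : Sw f := C.toSw

theorem eq_iff (C : Ctx f w π) {a b : ↥(centralizer ({f (ts F)} : Set G))} (h : π a = π b) :
    (a : G) = b ∨ (a : G) = b * f (ts F) := by
  have h1 : π (b⁻¹ * a) = 1 := by rw [map_mul, map_inv, h, inv_mul_cancel]
  rcases (C.ker _).1 h1 with h2 | h2
  · left
    have h3 : ((b : G))⁻¹ * a = 1 := h2
    exact (inv_mul_eq_one.1 h3).symm
  · right
    have h3 : ((b : G))⁻¹ * a = f (ts F) := h2
    exact inv_mul_eq_iff_eq_mul.1 h3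

/-- the embedding of `SL(2,F)` in `C_G(t)` -/
def j (C : Ctx f w π) : Matrix.SpecialLinearGroup (Fin 2) F →* ↥(centralizer ({f (ts F)} : Set G)) where
  toFun A := ⟨f (emb F A), mem_centralizer_singleton_iff.2 (C.sw.t_comm C.two A)⟩
  map_one' := Subtype.ext (by simp only [_root_.map_one, _root_.OneMemClass.coe_one])
  map_mul' A B := Subtype.ext (by simp)

theorem coe_j (C : Ctx f w π) (A : Matrix.SpecialLinearGroup (Fin 2) F) : ((C.j A : ↥(centralizer ({f (ts F)} : Set G))) : G) = f (emb F A) := rfl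

/-- the element `w` -/
def wY (C : Ctx f w π) : ↥(centralizer ({f (ts F)} : Set G)) := ⟨w, mem_centralizer_singleton_iff.2 C.wt⟩

theorem f_neg (C : Ctx f w π) (A : Matrix.SpecialLinearGroup (Fin 2) F) : f (emb F (-A)) = f (emb F A) * f (ts F) := by
  rw [← map_mul]
  congr 1
  show emb F (-A) = emb F A * emb F (-1)
  rw [← map_mul]
  congr 1
  simp

/-- image of a subgroup of `G` in the quotient -/
def im (C : Ctx f w π) (H : Subgroup G) : Subgroup X := (H.subgroupOf (centralizer ({f (ts F)} : Set G))).map π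

theorem mem_im (C : Ctx f w π) {H : Subgroup G} {x : X} :
    x ∈ C.im H ↔ ∃ y : ↥(centralizer ({f (ts F)} : Set G)), (y : G) ∈ H ∧ π y = x := by
  constructor
  · rintro ⟨y, hy, rfl⟩
    exact ⟨y, hy, rfl⟩
  · rintro ⟨y, hy, rfl⟩
    exact ⟨y, hy, rfl⟩

theorem exists_r [Fintype F] {m : ℕ} (hm1 : 1 < m) (hF : Fintype.card F = 3 ^ m) : ∃ r : Fˣ, (r : F) * r ≠ 1 := by
  by_contra hcon
  push Not at hcon
  have h7 : Nat.card Fˣ ≤ 2 := by
    have h8 : ∀ r : Fˣ, r = 1 ∨ r = -1 := by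
      intro r
      have h9 : ((r : F) - 1) * (r + 1) = 0 := by linear_combination hcon r
      rcases mul_eq_zero.1 h9 with h | h
      · left; apply Units.ext; rw [Units.val_one]; linear_combination h
      · right; apply Units.ext; rw [Units.val_neg, Units.val_one]; linear_combination h
    classical
    let g : Fˣ → Bool := fun r => decide (r = 1)
    have hg : Function.Injective g := by
      intro a b hab
      simp only [g, decide_eq_decide] at hab
      rcases h8 a with h | h <;> rcases h8 b with h' | h'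
      · rw [h, h']
      · rw [h, (hab.1 h)]
      · rw [h', (hab.2 h')]
      · rw [h, h']
    have := Nat.card_le_card_of_injective g hg
    simpa only [_root_.Nat.card_eq_fintype_card, _root_.ge_iff_le, _root_.Fintype.card_bool] using this
  rw [Nat.card_units, Nat.card_eq_fintype_card, hF] at h7
  have h5 : 3 ^ 2 ≤ 3 ^ m := Nat.pow_le_pow_right (by norm_num) hm1
  omega

theorem up_ne {s : F} (hs : s ≠ 0) (C : Ctx f w π) : f (emb F (up s)) ≠ 1 ∧ f (emb F (up s)) ≠ f (ts F) := by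
  constructor
  · intro h
    rw [← map_one f] at h
    have h1 := congrArg El.A (C.inj h)
    have h2 := congrArg (fun B : Matrix.SpecialLinearGroup (Fin 2) F => B.1 0 1) h1
    exact hs h2
  · intro h
    have h1 := congrArg El.A (C.inj h)
    have h2 := congrArg (fun B : Matrix.SpecialLinearGroup (Fin 2) F => B.1 0 0) h1
    have h3 : (1 : F) = -1 := by
      have e : ((ts F).A).1 0 0 = -1 := by
        show ((-1 : Matrix.SpecialLinearGroup (Fin 2) F)).1 0 0 = -1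
        rw [neg_one_apply, sl_one00]
      rw [← e]; exact h2
    apply C.two
    linear_combination h3

/-- the quotient has the properties of `Twin` -/
theorem twin (C : Ctx f w π) [Finite G] [Fintype F] {m : ℕ} (hm3 : 3 ≤ m) (hF : Fintype.card F = 3 ^ m) :
    ∃ h : X, Twin (C.im ((Zs F).map f)) ((π.comp C.j).range) (C.im ((Xs F).map f)) (π C.wY) h ∧
      ¬ 3 ∣ (C.im ((As F).map f)).index := by
  have h3p : Fact (Nat.Prime 3) := ⟨Nat.prime_three⟩
  have hm1 : 1 < m := by omega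
  have hcF : 3 < Fintype.card F := by
    rw [hF]
    calc 3 < 3 ^ 2 := by norm_num
      _ ≤ 3 ^ m := Nat.pow_le_pow_right (by norm_num) (by omega)
  obtain ⟨r, hr⟩ := exists_r hm1 hF
  have htt := C.sw.t_sq
  have ht1 := C.sw.t_ne C.two
  have hXfin : Finite X := Finite.of_surjective π C.surj
  -- the Sylow subgroup
  have hA3 : ∀ a ∈ (As F).map f, a ^ 3 = 1 := by
    rintro _ ⟨k, hk, rfl⟩
    rw [← map_pow, Ms_pow C.three ⟨hk.2.1, hk.2.2⟩, map_one]
  have hAab : ∀ a ∈ (As F).map f, ∀ b ∈ (As F).map f, a * b = b * a := by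
    rintro _ ⟨k, hk, rfl⟩ _ ⟨k', hk', rfl⟩
    rw [← map_mul, ← map_mul, Ms_comm ⟨hk.2.1, hk.2.2⟩ ⟨hk'.2.1, hk'.2.2⟩]
  have hAY : ∀ a ∈ (As F).map f, a ∈ centralizer ({f (ts F)} : Set G) := fun a ha =>
    mem_centralizer_singleton_iff.2 (C.sw.tA C.two ha)
  have hAsyl : ¬ 3 ∣ (((As F).map f).subgroupOf (centralizer ({f (ts F)} : Set G))).index := by
    have hp : IsPGroup 3 (((As F).map f).subgroupOf (centralizer ({f (ts F)} : Set G))) :=
      isPGroup_of_pow fun x hx => Subtype.ext (hA3 x hx)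
    obtain ⟨T, hT⟩ := hp.exists_le_sylow
    have hle : (T : Subgroup ↥(centralizer ({f (ts F)} : Set G))) ≤
        ((As F).map f).subgroupOf (centralizer ({f (ts F)} : Set G)) := by
      by_contra hcon
      obtain ⟨x, hxT, hxN, hxA⟩ :=
        Cfsg.Agent.SignalizersComponents.RelSylow.exists_mem_normalizer T.isPGroup' hT hcon
      apply hxA
      obtain ⟨n, hn⟩ := T.isPGroup' ⟨x, hxT⟩
      refine C.sw.mem_A C.two C.three (x := (x : G)) (mem_centralizer_singleton_iff.1 x.2) ?_ (n := n) ?_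
      · intro a ha
        rw [mem_normalizer_iff] at hxN
        exact (hxN ⟨a, hAY a ha⟩).1 ha
      · have := congrArg (fun y : T => ((y : ↥(centralizer ({f (ts F)} : Set G))) : G)) hn
        exact this
    rw [← le_antisymm hle hT]
    exact T.not_dvd_index
  have hcomm : ∀ z ∈ (Zs F).map f, ∀ A, z * f (emb F A) = f (emb F A) * z := fun z hz A => C.sw.comm_Z hz _
  have hjZ : ∀ y : ↥(centralizer ({f (ts F)} : Set G)), ∀ A, (y : G) ∈ (Zs F).map f → π y * π (C.j A) = π (C.j A) * π y := by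
    intro y A hy
    rw [← map_mul, ← map_mul]
    congr 1
    exact Subtype.ext (hcomm y hy A)
  have hXL : ∀ y : ↥(centralizer ({f (ts F)} : Set G)), (y : G) ∈ (Xs F).map f → ∃ s, y = C.j (up s) := by
    intro y hy
    obtain ⟨s, hs⟩ := C.sw.of_mem_X hy
    exact ⟨s, Subtype.ext hs⟩
  have hindex : ¬ 3 ∣ (C.im ((As F).map f)).index := by
    intro hdvd
    exact hAsyl (hdvd.trans (Subgroup.index_map_dvd _ C.surj))
  refine ⟨π (C.j (dg r)), ?_, hindex⟩
  refine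
    { Z3 := ?_
      cardZ := ?_
      Zab := ?_
      simple := ?_
      nc := ?_
      DL := ?_
      D3 := ?_
      Dab := ?_
      comm := ?_
      cent := ?_
      hL := ⟨dg r, rfl⟩
      hD := ?_
      wZ := ?_
      wD := ?_
      syl := ⟨C.im ((As F).map f), ?_, hindex, ?_⟩ }
  · intro z hz
    obtain ⟨y, hy, rfl⟩ := C.mem_im.1 hz
    rw [← map_pow]
    have : y ^ 3 = 1 := Subtype.ext (hA3 y (Sw.ZA f hy))
    rw [this, map_one]
  · -- order of `Z`
    have h1 : Nat.card (C.im ((Zs F).map f)) = 3 ^ m := by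
      let φ : F → C.im ((Zs F).map f) := fun v =>
        ⟨π ⟨f (q v 0 0), hAY _ (Sw.ZA f C.sw.mem_Z)⟩, C.mem_im.2 ⟨_, C.sw.mem_Z, rfl⟩⟩
      have hφ : Function.Bijective φ := by
        constructor
        · intro a b hab
          have h2 := congrArg Subtype.val hab
          rcases C.eq_iff h2 with h3 | h3
          · exact congrArg El.z (C.inj h3)
          · exfalso
            have h4 : f (q a 0 0) = f (q b 0 0) * f (ts F) := h3
            have h5 : (f (q a 0 0)) ^ 3 = f (ts F) := by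
              have h6 : Commute (f (q b 0 0)) (f (ts F)) := C.sw.comm_Z C.sw.mem_Z _
              rw [h4, h6.mul_pow, hA3 _ (Sw.ZA f C.sw.mem_Z), one_mul, pow_succ, pow_two, htt, one_mul]
            rw [hA3 _ (Sw.ZA f C.sw.mem_Z)] at h5
            exact ht1 h5.symm
        · rintro ⟨x, hx⟩
          obtain ⟨y, hy, rfl⟩ := C.mem_im.1 hx
          obtain ⟨v, hv⟩ := C.sw.of_mem_Z hy
          refine ⟨v, Subtype.ext ?_⟩
          show π _ = π y
          congr 1
          exact Subtype.ext hv.symm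
      rw [← Nat.card_congr (Equiv.ofBijective φ hφ), Nat.card_eq_fintype_card, hF]
    rw [h1]
    exact pow_dvd_pow 3 hm3
  · intro z hz z' hz'
    obtain ⟨y, hy, rfl⟩ := C.mem_im.1 hz
    obtain ⟨y', hy', rfl⟩ := C.mem_im.1 hz'
    rw [← map_mul, ← map_mul]
    congr 1
    exact Subtype.ext (hAab y (Sw.ZA f hy) y' (Sw.ZA f hy'))
  · -- simple
    have hnt : Nontrivial ((π.comp C.j).range) := by
      refine ⟨⟨⟨_, up 1, rfl⟩, 1, fun h => ?_⟩⟩
      have h1 : π (C.j (up 1)) = 1 := congrArg Subtype.val h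
      rcases (C.ker _).1 h1 with h2 | h2
      · exact (up_ne one_ne_zero C).1 h2
      · exact (up_ne one_ne_zero C).2 h2
    refine { exists_pair_ne := hnt.exists_pair_ne, eq_bot_or_eq_top_of_normal := fun N hN => ?_ }
    have hs : Function.Surjective ((π.comp C.j).rangeRestrict) := MonoidHom.rangeRestrict_surjective _
    rcases sl_normal hcF (N.comap (π.comp C.j).rangeRestrict) (hN.comap _) with h | h
    · right
      rw [eq_top_iff]
      intro x _
      obtain ⟨A, rfl⟩ := hs x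
      have : A ∈ N.comap (π.comp C.j).rangeRestrict := by rw [h]; trivial
      exact this
    · left
      rw [Subgroup.eq_bot_iff_forall]
      intro x hx
      obtain ⟨A, rfl⟩ := hs x
      have h1 : A ∈ N.comap (π.comp C.j).rangeRestrict := hx
      apply Subtype.ext
      show π (C.j A) = 1
      rw [C.ker, C.coe_j]
      rcases sl_center (h h1) with h2 | h2
      · left; rw [h2]; simp
      · right; rw [h2]; rfl
  · -- not commutative
    refine ⟨_, ⟨dg r, rfl⟩, _, ⟨up 1, rfl⟩, fun h => ?_⟩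
    have h1 : π (C.j (dg r * up 1 * (dg r)⁻¹ * (up 1)⁻¹)) = 1 := by
      have h2 : π (C.j (dg r)) * π (C.j (up 1)) = π (C.j (up 1)) * π (C.j (dg r)) := h
      simp only [map_mul, map_inv]
      rw [h2]; group
    rw [dg_up, ← up_neg, ← up_add] at h1
    have h3 : (r : F) * r * 1 + -1 ≠ 0 := fun h => hr (by linear_combination h)
    rcases (C.ker _).1 h1 with h2 | h2
    · exact (up_ne h3 C).1 h2
    · exact (up_ne h3 C).2 h2
  · intro d hd
    obtain ⟨y, hy, rfl⟩ := C.mem_im.1 hd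
    obtain ⟨s, rfl⟩ := hXL y hy
    exact ⟨up s, rfl⟩
  · intro z hz
    obtain ⟨y, hy, rfl⟩ := C.mem_im.1 hz
    rw [← map_pow]
    have : y ^ 3 = 1 := Subtype.ext (hA3 y (Sw.XA f hy))
    rw [this, map_one]
  · intro z hz z' hz'
    obtain ⟨y, hy, rfl⟩ := C.mem_im.1 hz
    obtain ⟨y', hy', rfl⟩ := C.mem_im.1 hz'
    rw [← map_mul, ← map_mul]
    congr 1
    exact Subtype.ext (hAab y (Sw.XA f hy) y' (Sw.XA f hy'))
  · intro z hz l hl
    obtain ⟨y, hy, rfl⟩ := C.mem_im.1 hz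
    obtain ⟨A, rfl⟩ := hl
    exact hjZ y A hy
  · -- the centralizer of `z`
    intro z hz hz1 g hg
    obtain ⟨y, hy, rfl⟩ := C.mem_im.1 hz
    obtain ⟨g, rfl⟩ := C.surj g
    have hy1 : (y : G) ≠ 1 := by
      intro h
      apply hz1
      rw [C.ker]; exact Or.inl h
    rw [← map_mul, ← map_mul] at hg
    have hgy : (g : G) * y = y * g := by
      rcases C.eq_iff hg with h1 | h1
      · exact h1
      · exfalso
        have h2 : (g : G) * y = y * g * f (ts F) := h1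
        have h3 : (g : G) * f (ts F) = f (ts F) * g := mem_centralizer_singleton_iff.1 g.2
        have h4 : (g : G) * y * (g : G)⁻¹ = y * f (ts F) := by
          rw [h2, mul_assoc (y : G), h3]; group
        have h5 : ((g : G) * y * (g : G)⁻¹) ^ 3 = 1 := by
          rw [conj_pow, hA3 _ (Sw.ZA f hy)]; simp
        have h6 : Commute (y : G) (f (ts F)) := C.sw.comm_Z hy _
        rw [h4, h6.mul_pow, hA3 _ (Sw.ZA f hy), one_mul, pow_succ, pow_two, htt, one_mul] at h5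
        exact ht1 h5
    obtain ⟨z', hz', A, h7⟩ := C.sw.cent_tz C.two hy hy1 (mem_centralizer_singleton_iff.1 g.2) hgy
    refine ⟨π ⟨z', hAY _ (Sw.ZA f hz')⟩, C.mem_im.2 ⟨_, hz', rfl⟩, π (C.j A), ⟨A, rfl⟩, ?_⟩
    rw [← map_mul]
    congr 1
    exact Subtype.ext h7
  · intro d hd hd1
    obtain ⟨y, hy, rfl⟩ := C.mem_im.1 hd
    obtain ⟨s, rfl⟩ := hXL y hy
    have hs : s ≠ 0 := by
      rintro rfl
      apply hd1
      rw [up_zero, map_one, map_one]
    have h1 : π (C.j (dg r)) * π (C.j (up s)) * (π (C.j (dg r)))⁻¹ * (π (C.j (up s)))⁻¹ =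
        π (C.j (up (((r : F) * r - 1) * s))) := by
      rw [← map_inv, ← map_inv, ← map_mul, ← map_mul, ← map_mul, ← map_inv, ← map_inv, ← map_mul, ← map_mul,
        ← map_mul, dg_up, ← up_neg, ← up_add]
      congr 3
      ring
    rw [h1]
    have h2 : ((r : F) * r - 1) * s ≠ 0 := mul_ne_zero (fun h => hr (by linear_combination h)) hs
    refine ⟨C.mem_im.2 ⟨_, C.sw.mem_X, rfl⟩, fun h => ?_⟩
    rcases (C.ker _).1 h with h3 | h3
    · exact (up_ne h2 C).1 h3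
    · exact (up_ne h2 C).2 h3
  · intro x
    constructor
    · intro hx
      obtain ⟨y, hy, rfl⟩ := C.mem_im.1 hx
      rw [← map_inv, ← map_mul, ← map_mul]
      exact C.mem_im.2 ⟨_, (C.wZ _).1 hy, rfl⟩
    · intro hx
      obtain ⟨y, hy, h1⟩ := C.mem_im.1 hx
      refine C.mem_im.2 ⟨C.wY⁻¹ * y * C.wY, ?_, ?_⟩
      · rw [C.wZ]
        have : w * ((C.wY⁻¹ * y * C.wY : ↥(centralizer ({f (ts F)} : Set G))) : G) * w⁻¹ = y := by
          show w * (w⁻¹ * y * w) * w⁻¹ = y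
          group
        rw [this]; exact hy
      · rw [map_mul, map_mul, map_inv, h1]; group
  · intro x
    constructor
    · intro hx
      obtain ⟨y, hy, rfl⟩ := C.mem_im.1 hx
      rw [← map_inv, ← map_mul, ← map_mul]
      exact C.mem_im.2 ⟨_, (C.wX _).1 hy, rfl⟩
    · intro hx
      obtain ⟨y, hy, h1⟩ := C.mem_im.1 hx
      refine C.mem_im.2 ⟨C.wY⁻¹ * y * C.wY, ?_, ?_⟩
      · rw [C.wX]
        have : w * ((C.wY⁻¹ * y * C.wY : ↥(centralizer ({f (ts F)} : Set G))) : G) * w⁻¹ = y := by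
          show w * (w⁻¹ * y * w) * w⁻¹ = y
          group
        rw [this]; exact hy
      · rw [map_mul, map_mul, map_inv, h1]; group
  · refine isPGroup_of_pow fun x hx => ?_
    obtain ⟨y, hy, rfl⟩ := C.mem_im.1 hx
    rw [← map_pow]
    have : y ^ 3 = 1 := Subtype.ext (hA3 y hy)
    rw [this, map_one]
  · intro a
    constructor
    · intro ha
      obtain ⟨y, hy, rfl⟩ := C.mem_im.1 ha
      obtain ⟨z, hz, x, hx, h1⟩ := C.sw.dec_A hy
      refine ⟨π ⟨z, hAY _ (Sw.ZA f hz)⟩, C.mem_im.2 ⟨_, hz, rfl⟩, π ⟨x, hAY _ (Sw.XA f hx)⟩,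
        C.mem_im.2 ⟨_, hx, rfl⟩, ?_⟩
      rw [← map_mul]
      congr 1
      exact Subtype.ext h1
    · rintro ⟨z, hz, x, hx, rfl⟩
      obtain ⟨y, hy, rfl⟩ := C.mem_im.1 hz
      obtain ⟨y', hy', rfl⟩ := C.mem_im.1 hx
      rw [← map_mul]
      exact C.mem_im.2 ⟨_, ((As F).map f).mul_mem (Sw.ZA f hy) (Sw.XA f hy'), rfl⟩

end Ctx

end Cfsg.Agent.H334.Sp4
end

-- part: H334/Sp4/TIso
section
/-!
# Two groups with coordinates `TSp` with the same `k` are isomorphic; centralizer of nonabelian subgroups of `SL(2,F)`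
-/

set_option autoImplicit false
set_option linter.unusedSectionVars false
set_option linter.unusedVariables false
set_option linter.unusedSimpArgs false

open Subgroup

namespace Cfsg.Agent.H334.Sp4

open Cfsg.Agent.SylowSp4.Coord Cfsg.Agent.SylowSp4.Base

/-- groups with the same coordinates are isomorphic -/
theorem iso_of_TSp {G G' : Type*} [Group G] [Group G'] {S : Subgroup G} {S' : Subgroup G'} {k : ℕ}
    {f : Q k → Q k → G} {s : G} {f' : Q k → Q k → G'} {s' : G'} (h : TSp S k f s) (h' : TSp S' k f' s') :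
    Nonempty (S ≃* S') := by
  obtain ⟨Γ, hΓ⟩ := exists_TSp (G := G × G') h.hk (f := fun a b => (f a b, f' a b)) (s := (s, s'))
    (fun a b c d => Prod.ext (h.f_mul a b c d) (h'.f_mul a b c d))
    (Prod.ext h.f_zz h'.f_zz)
    (fun a b c d e => h.f_inj a b c d (congrArg Prod.fst e))
    (Prod.ext h.s_s h'.s_s)
    (fun a b => Prod.ext (h.s_f a b) (h'.s_f a b))
    (fun a b e => h.s_ne a b (congrArg Prod.fst e))
  have c0 := card_eq hΓ
  have c1 := card_eq h
  have c2 := card_eq h'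
  have hf0 : Finite Γ := Nat.finite_of_card_ne_zero (by rw [c0]; positivity)
  have hf1 : Finite S := Nat.finite_of_card_ne_zero (by rw [c1]; positivity)
  have hf2 : Finite S' := Nat.finite_of_card_ne_zero (by rw [c2]; positivity)
  have m1 : ∀ x : Γ, (x : G × G').1 ∈ S := by
    intro x
    rw [h.mem_iff]
    rcases (hΓ.mem_iff _).1 x.2 with ⟨a, b, e⟩ | ⟨a, b, e⟩
    · exact Or.inl ⟨a, b, congrArg Prod.fst e⟩
    · exact Or.inr ⟨a, b, congrArg Prod.fst e⟩
  have m2 : ∀ x : Γ, (x : G × G').2 ∈ S' := by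
    intro x
    rw [h'.mem_iff]
    rcases (hΓ.mem_iff _).1 x.2 with ⟨a, b, e⟩ | ⟨a, b, e⟩
    · exact Or.inl ⟨a, b, congrArg Prod.snd e⟩
    · exact Or.inr ⟨a, b, congrArg Prod.snd e⟩
  let p1 : Γ →* S :=
    { toFun := fun x => ⟨(x : G × G').1, m1 x⟩, map_one' := rfl, map_mul' := fun _ _ => rfl }
  let p2 : Γ →* S' :=
    { toFun := fun x => ⟨(x : G × G').2, m2 x⟩, map_one' := rfl, map_mul' := fun _ _ => rfl }
  have s1 : Function.Surjective p1 := by
    rintro ⟨g, hg⟩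
    rcases (h.mem_iff _).1 hg with ⟨a, b, rfl⟩ | ⟨a, b, rfl⟩
    · exact ⟨⟨(f a b, f' a b), (hΓ.mem_iff _).2 (Or.inl ⟨a, b, rfl⟩)⟩, rfl⟩
    · exact ⟨⟨(f a b * s, f' a b * s'), (hΓ.mem_iff _).2 (Or.inr ⟨a, b, rfl⟩)⟩, rfl⟩
  have s2 : Function.Surjective p2 := by
    rintro ⟨g, hg⟩
    rcases (h'.mem_iff _).1 hg with ⟨a, b, rfl⟩ | ⟨a, b, rfl⟩
    · exact ⟨⟨(f a b, f' a b), (hΓ.mem_iff _).2 (Or.inl ⟨a, b, rfl⟩)⟩, rfl⟩
    · exact ⟨⟨(f a b * s, f' a b * s'), (hΓ.mem_iff _).2 (Or.inr ⟨a, b, rfl⟩)⟩, rfl⟩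
  have b1 : Function.Bijective p1 := s1.bijective_of_nat_card_le (by rw [c0, c1])
  have b2 : Function.Bijective p2 := s2.bijective_of_nat_card_le (by rw [c0, c2])
  exact ⟨(MulEquiv.ofBijective p1 b1).symm.trans (MulEquiv.ofBijective p2 b2)⟩

open Cfsg.Agent.H334.Symp Cfsg.Agent.H334.Symp.El

/-- the centralizer of two noncommuting elements of `SL(2,F)` is `± 1` -/
theorem sl_cent {F : Type*} [Field F] {A P P' : Matrix.SpecialLinearGroup (Fin 2) F} (h : A * P = P * A)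
    (h' : A * P' = P' * A) (hne : P * P' ≠ P' * P) : A = 1 ∨ A = -1 := by
  have e00 := congrArg (fun B : Matrix.SpecialLinearGroup (Fin 2) F => B.1 0 0) h
  have e01 := congrArg (fun B : Matrix.SpecialLinearGroup (Fin 2) F => B.1 0 1) h
  have e10 := congrArg (fun B : Matrix.SpecialLinearGroup (Fin 2) F => B.1 1 0) h
  have f00 := congrArg (fun B : Matrix.SpecialLinearGroup (Fin 2) F => B.1 0 0) h'
  have f01 := congrArg (fun B : Matrix.SpecialLinearGroup (Fin 2) F => B.1 0 1) h'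
  have f10 := congrArg (fun B : Matrix.SpecialLinearGroup (Fin 2) F => B.1 1 0) h'
  simp only [sl_mul] at e00 e01 e10 f00 f01 f10
  have key : A.1 0 1 = 0 ∧ A.1 1 0 = 0 ∧ A.1 0 0 = A.1 1 1 := by
    by_contra hcon
    apply hne
    have comm : P.1 0 1 * P'.1 1 0 = P'.1 0 1 * P.1 1 0 ∧
        P.1 0 1 * (P'.1 0 0 - P'.1 1 1) = P'.1 0 1 * (P.1 0 0 - P.1 1 1) ∧
        P.1 1 0 * (P'.1 0 0 - P'.1 1 1) = P'.1 1 0 * (P.1 0 0 - P.1 1 1) := by
      by_cases hb : A.1 0 1 = 0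
      · by_cases hc : A.1 1 0 = 0
        · have hd : A.1 0 0 - A.1 1 1 ≠ 0 := fun hd => hcon ⟨hb, hc, sub_eq_zero.1 hd⟩
          have h1 : P.1 0 1 = 0 := by
            have : (A.1 0 0 - A.1 1 1) * P.1 0 1 = 0 := by linear_combination e01 + (P.1 0 0 - P.1 1 1) * hb
            exact (mul_eq_zero.1 this).resolve_left hd
          have h2 : P'.1 0 1 = 0 := by
            have : (A.1 0 0 - A.1 1 1) * P'.1 0 1 = 0 := by linear_combination f01 + (P'.1 0 0 - P'.1 1 1) * hb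
            exact (mul_eq_zero.1 this).resolve_left hd
          have h3 : P.1 1 0 = 0 := by
            have : (A.1 0 0 - A.1 1 1) * P.1 1 0 = 0 := by linear_combination -e10 + (P.1 0 0 - P.1 1 1) * hc
            exact (mul_eq_zero.1 this).resolve_left hd
          have h4 : P'.1 1 0 = 0 := by
            have : (A.1 0 0 - A.1 1 1) * P'.1 1 0 = 0 := by linear_combination -f10 + (P'.1 0 0 - P'.1 1 1) * hc
            exact (mul_eq_zero.1 this).resolve_left hd
          rw [h1, h2, h3, h4]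
          exact ⟨by ring, by ring, by ring⟩
        · refine ⟨?_, ?_, ?_⟩
          · apply mul_left_cancel₀ hc
            linear_combination (-P'.1 1 0) * e00 + (P.1 1 0) * f00
          · apply mul_left_cancel₀ hc
            have h1 : A.1 1 0 * P.1 0 1 = 0 := by linear_combination -e00 + P.1 1 0 * hb
            have h2 : A.1 1 0 * P'.1 0 1 = 0 := by linear_combination -f00 + P'.1 1 0 * hb
            linear_combination (P'.1 0 0 - P'.1 1 1) * h1 - (P.1 0 0 - P.1 1 1) * h2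
          · apply mul_left_cancel₀ hc
            linear_combination (P.1 1 0) * f10 - (P'.1 1 0) * e10
      · have c2 : P.1 0 1 * (P'.1 0 0 - P'.1 1 1) = P'.1 0 1 * (P.1 0 0 - P.1 1 1) := by
          apply mul_left_cancel₀ hb
          linear_combination (P'.1 0 1) * e01 - (P.1 0 1) * f01
        refine ⟨?_, c2, ?_⟩
        · apply mul_left_cancel₀ hb
          linear_combination (P.1 0 1) * f00 - (P'.1 0 1) * e00
        · apply mul_left_cancel₀ hb
          linear_combination (P'.1 0 0 - P'.1 1 1) * e00 - (P.1 0 0 - P.1 1 1) * f00 + A.1 1 0 * c2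
    obtain ⟨c1, c2, c3⟩ := comm
    apply sl_ext
    · rw [sl_mul, sl_mul]; linear_combination c1
    · rw [sl_mul, sl_mul]; linear_combination -c2
    · rw [sl_mul, sl_mul]; linear_combination c3
    · rw [sl_mul, sl_mul]; linear_combination -c1
  obtain ⟨h01, h10, hd⟩ := key
  have hdet := det_eq A
  rw [h10, ← hd, mul_zero, sub_zero] at hdet
  rcases mul_self_eq_one_iff.1 hdet with h | h
  · left
    apply sl_ext
    · rw [h, sl_one00]
    · rw [h01, sl_one01]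
    · rw [h10, sl_one10]
    · rw [← hd, h, sl_one11]
  · right
    apply sl_ext
    · rw [h, neg_one_apply, sl_one00]
    · rw [h01, neg_one_apply, sl_one01, neg_zero]
    · rw [h10, neg_one_apply, sl_one10, neg_zero]
    · rw [← hd, h, neg_one_apply, sl_one11]

end Cfsg.Agent.H334.Sp4
end

private theorem dce_eb2cad44a718 : _root_.True := by
  try have : _root_.True := by simp only [_root_.Cfsg.Agent.H334.Sp4.Ctx.wY.congr_simp]
  try have : _root_.True := by simp only [_root_.Cfsg.Agent.H334.Symp.El.q.eq_1]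
  try have : _root_.True := by simp only [_root_.Cfsg.Agent.H334.Sp4.coG.congr_simp]
  try have : _root_.True := by simp only [_root_.Cfsg.Agent.H334.Sp4.Ctx.j.congr_simp]
  exact _root_.True.intro
end
end
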